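import Cfsg.Prelude.Def_Spor_Ru

/-!
The Rudvalis lattice of `Def_Spor_Ru`: the Hermitian product on `RuVec`, the adjoints of the four monomial
maps, and their effect on `ruNorm`. (helper8)
-/

set_option autoImplicit false

namespace Cfsg.Agent.Lib.Helper8.RuLat

open Cfsg.Spor

/-- The Hermitian product `∑ x_p * conj (y_p)`. -/
def herm (x y : RuVec) : GaussianInt := ∑ p, x p * star (y p)

theorem herm_add_left (x x' y : RuVec) : herm (x + x') y = herm x y + herm x' y := by
  simp [herm, add_mul, Finset.sum_add_distrib]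

theorem herm_zero_left (y : RuVec) : herm 0 y = 0 := by
  simp [herm]

theorem herm_neg_left (x y : RuVec) : herm (-x) y = -herm x y := by
  simp [herm]

theorem herm_smul_left (c : GaussianInt) (x y : RuVec) : herm (c • x) y = c * herm x y := by
  simp [herm, Finset.mul_sum, mul_assoc]

theorem herm_add_right (x y y' : RuVec) : herm x (y + y') = herm x y + herm x y' := by
  simp [herm, mul_add, Finset.sum_add_distrib]

theorem herm_zero_right (x : RuVec) : herm x 0 = 0 := by
  simp [herm]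

theorem herm_neg_right (x y : RuVec) : herm x (-y) = -herm x y := by
  simp [herm]

theorem herm_smul_right (c : GaussianInt) (x y : RuVec) : herm x (c • y) = star c * herm x y := by
  simp only [herm, Pi.smul_apply, smul_eq_mul, star_mul', Finset.mul_sum]
  refine Finset.sum_congr rfl fun p _ => ?_
  ring

theorem herm_sum_right {ι : Type*} (s : Finset ι) (x : RuVec) (c : ι → GaussianInt) (y : ι → RuVec) :
    herm x (∑ l ∈ s, c l • y l) = ∑ l ∈ s, star (c l) * herm x (y l) := by
  classical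
  induction s using Finset.induction_on with
  | empty => simp [herm_zero_right]
  | insert a s ha ih =>
    rw [Finset.sum_insert ha, Finset.sum_insert ha, herm_add_right, herm_smul_right, ih]

theorem star_gI : star gI = -gI := by decide

theorem gI_mul_gI : gI * gI = -1 := by decide

/-- split a sum over the index set into the seven quaternion blocks -/
theorem sum_idx (f : RuIdx → GaussianInt) :
    ∑ p, f p = ∑ n : Fin 7, (f (n, 0) + f (n, 1) + f (n, 2) + f (n, 3)) := by
  rw [Fintype.sum_prod_type]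
  refine Finset.sum_congr rfl fun n _ => ?_
  rw [Fin.sum_univ_four]

theorem sum_idx_int (f : RuIdx → ℤ) :
    ∑ p, f p = ∑ n : Fin 7, (f (n, 0) + f (n, 1) + f (n, 2) + f (n, 3)) := by
  rw [Fintype.sum_prod_type]
  refine Finset.sum_congr rfl fun n _ => ?_
  rw [Fin.sum_univ_four]

theorem ruRj_apply0 (v : RuVec) (n : Fin 7) : ruRj v (n, 0) = gI * v (n, 1) := rfl
theorem ruRj_apply1 (v : RuVec) (n : Fin 7) : ruRj v (n, 1) = gI * v (n, 0) := rfl
theorem ruRj_apply2 (v : RuVec) (n : Fin 7) : ruRj v (n, 2) = v (n, 3) := rfl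
theorem ruRj_apply3 (v : RuVec) (n : Fin 7) : ruRj v (n, 3) = -v (n, 2) := rfl
theorem ruRk_apply0 (v : RuVec) (n : Fin 7) : ruRk v (n, 0) = gI * v (n, 2) := rfl
theorem ruRk_apply1 (v : RuVec) (n : Fin 7) : ruRk v (n, 1) = -v (n, 3) := rfl
theorem ruRk_apply2 (v : RuVec) (n : Fin 7) : ruRk v (n, 2) = gI * v (n, 0) := rfl
theorem ruRk_apply3 (v : RuVec) (n : Fin 7) : ruRk v (n, 3) = v (n, 1) := rfl

/-- `ruRj` is unitary with square `-1`, so its adjoint is `-ruRj`. -/
theorem herm_ruRj (x y : RuVec) : herm (ruRj x) y = -herm x (ruRj y) := by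
  unfold herm
  rw [sum_idx, sum_idx, ← Finset.sum_neg_distrib]
  refine Finset.sum_congr rfl fun n _ => ?_
  simp only [ruRj_apply0, ruRj_apply1, ruRj_apply2, ruRj_apply3, star_mul', star_neg, star_gI]
  ring

theorem herm_ruRk (x y : RuVec) : herm (ruRk x) y = -herm x (ruRk y) := by
  unfold herm
  rw [sum_idx, sum_idx, ← Finset.sum_neg_distrib]
  refine Finset.sum_congr rfl fun n _ => ?_
  simp only [ruRk_apply0, ruRk_apply1, ruRk_apply2, ruRk_apply3, star_mul', star_neg, star_gI]
  ring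

theorem herm_ruSign (x y : RuVec) : herm (ruSign x) y = herm x (ruSign y) := by
  unfold herm
  refine Finset.sum_congr rfl fun p _ => ?_
  unfold ruSign
  split_ifs <;> simp

/-- the inverse of the cyclic shift -/
def ruShiftInv (v : RuVec) : RuVec := fun p => v (p.1 - 1, p.2)

theorem herm_ruShift (x y : RuVec) : herm (ruShift x) y = herm x (ruShiftInv y) := by
  unfold herm
  let e : RuIdx ≃ RuIdx := Equiv.prodCongr (Equiv.addRight (1 : Fin 7)) (Equiv.refl _)
  rw [← Equiv.sum_comp e (fun p => x p * star (ruShiftInv y p))]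
  refine Finset.sum_congr rfl fun p _ => ?_
  obtain ⟨n, t⟩ := p
  simp [e, ruShift, ruShiftInv]

theorem herm_ruShiftInv (x y : RuVec) : herm (ruShiftInv x) y = herm x (ruShift y) := by
  unfold herm
  let e : RuIdx ≃ RuIdx := Equiv.prodCongr (Equiv.addRight (1 : Fin 7)) (Equiv.refl _)
  rw [← Equiv.sum_comp e (fun p => ruShiftInv x p * star (y p))]
  refine Finset.sum_congr rfl fun p _ => ?_
  obtain ⟨n, t⟩ := p
  simp [e, ruShift, ruShiftInv]

theorem ruShiftInv_eq (v : RuVec) :
    ruShiftInv v = ruShift (ruShift (ruShift (ruShift (ruShift (ruShift v))))) := by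
  funext p
  obtain ⟨n, t⟩ := p
  simp only [ruShift, ruShiftInv]
  congr 2
  revert n
  decide

/-! ### membership of `ruLattice` under the maps -/

theorem ruRj_mem {v : RuVec} (hv : v ∈ ruLattice) : ruRj v ∈ ruLattice := by
  rw [ruLattice, AddSubgroup.mem_sInf] at hv ⊢
  intro L hL
  exact (hL.2 v (hv L hL)).2.1

theorem ruRk_mem {v : RuVec} (hv : v ∈ ruLattice) : ruRk v ∈ ruLattice := by
  rw [ruLattice, AddSubgroup.mem_sInf] at hv ⊢
  intro L hL
  exact (hL.2 v (hv L hL)).2.2.1

theorem ruSign_mem {v : RuVec} (hv : v ∈ ruLattice) : ruSign v ∈ ruLattice := by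
  rw [ruLattice, AddSubgroup.mem_sInf] at hv ⊢
  intro L hL
  exact (hL.2 v (hv L hL)).2.2.2.1

theorem ruShift_mem {v : RuVec} (hv : v ∈ ruLattice) : ruShift v ∈ ruLattice := by
  rw [ruLattice, AddSubgroup.mem_sInf] at hv ⊢
  intro L hL
  exact (hL.2 v (hv L hL)).2.2.2.2

theorem ruShiftInv_mem {v : RuVec} (hv : v ∈ ruLattice) : ruShiftInv v ∈ ruLattice := by
  rw [ruShiftInv_eq]
  exact ruShift_mem (ruShift_mem (ruShift_mem (ruShift_mem (ruShift_mem (ruShift_mem hv)))))

theorem table_mem {v : RuVec} (hv : v ∈ ruTable) : v ∈ ruLattice := by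
  rw [ruLattice, AddSubgroup.mem_sInf]
  intro L hL
  exact hL.1 v hv

/-- to show that `ruLattice` lies in an additive subgroup, check the table and the five closure maps -/
theorem ruLattice_le (L : AddSubgroup RuVec) (h1 : ∀ v ∈ ruTable, v ∈ L)
    (hI : ∀ v ∈ L, gI • v ∈ L) (hj : ∀ v ∈ L, ruRj v ∈ L) (hk : ∀ v ∈ L, ruRk v ∈ L)
    (hs : ∀ v ∈ L, ruSign v ∈ L) (hsh : ∀ v ∈ L, ruShift v ∈ L) : ruLattice ≤ L := by
  apply sInf_le
  exact ⟨h1, fun v hv => ⟨hI v hv, hj v hv, hk v hv, hs v hv, hsh v hv⟩⟩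

/-! ### the norm -/

theorem ruNorm_eq_herm (v : RuVec) : ruNorm v = (herm v v).re := by
  unfold ruNorm herm
  have : ∀ l : Finset RuIdx, (∑ p ∈ l, v p * star (v p)).re = ∑ p ∈ l, (v p).norm := by
    intro l
    classical
    induction l using Finset.induction_on with
    | empty => simp
    | insert a s ha ih =>
      rw [Finset.sum_insert ha, Finset.sum_insert ha, Zsqrtd.re_add, ih]
      congr 1
      rw [Zsqrtd.norm_def]
      obtain ⟨a1, a2⟩ := v a
      simp [Zsqrtd.star_mk]
  rw [this]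

theorem ruNorm_add (u v : RuVec) : ruNorm (u + v) = ruNorm u + ruNorm v + 2 * (herm u v).re := by
  unfold ruNorm herm
  have : ∀ l : Finset RuIdx, (∑ p ∈ l, u p * star (v p)).re =
      ∑ p ∈ l, ((u p).re * (v p).re + (u p).im * (v p).im) := by
    intro l
    classical
    induction l using Finset.induction_on with
    | empty => simp
    | insert a s ha ih =>
      rw [Finset.sum_insert ha, Finset.sum_insert ha, Zsqrtd.re_add, ih]
      congr 1
      obtain ⟨a1, a2⟩ := u a
      obtain ⟨b1, b2⟩ := v a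
      simp [Zsqrtd.star_mk]
  rw [this, Finset.mul_sum, ← Finset.sum_add_distrib, ← Finset.sum_add_distrib]
  refine Finset.sum_congr rfl fun p _ => ?_
  simp only [Pi.add_apply, Zsqrtd.norm_def, Zsqrtd.re_add, Zsqrtd.im_add]
  ring

theorem ruNorm_neg (v : RuVec) : ruNorm (-v) = ruNorm v := by
  unfold ruNorm
  refine Finset.sum_congr rfl fun p _ => ?_
  simp [Zsqrtd.norm_def]

theorem ruNorm_zero : ruNorm 0 = 0 := by
  unfold ruNorm
  simp [Zsqrtd.norm_def]

theorem ruNorm_smul (c : GaussianInt) (v : RuVec) : ruNorm (c • v) = c.norm * ruNorm v := by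
  unfold ruNorm
  rw [Finset.mul_sum]
  refine Finset.sum_congr rfl fun p _ => ?_
  simp [Zsqrtd.norm_mul]

theorem norm_gI : gI.norm = 1 := by decide

theorem ruNorm_ruRj (v : RuVec) : ruNorm (ruRj v) = ruNorm v := by
  unfold ruNorm
  rw [sum_idx_int, sum_idx_int]
  refine Finset.sum_congr rfl fun n _ => ?_
  simp only [ruRj_apply0, ruRj_apply1, ruRj_apply2, ruRj_apply3, Zsqrtd.norm_mul, norm_gI, one_mul,
    Zsqrtd.norm_neg]
  ring

theorem ruNorm_ruRk (v : RuVec) : ruNorm (ruRk v) = ruNorm v := by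
  unfold ruNorm
  rw [sum_idx_int, sum_idx_int]
  refine Finset.sum_congr rfl fun n _ => ?_
  simp only [ruRk_apply0, ruRk_apply1, ruRk_apply2, ruRk_apply3, Zsqrtd.norm_mul, norm_gI, one_mul,
    Zsqrtd.norm_neg]
  ring

theorem ruNorm_ruSign (v : RuVec) : ruNorm (ruSign v) = ruNorm v := by
  unfold ruNorm
  refine Finset.sum_congr rfl fun p _ => ?_
  unfold ruSign
  split_ifs <;> simp [Zsqrtd.norm_neg]

theorem ruNorm_ruShift (v : RuVec) : ruNorm (ruShift v) = ruNorm v := by
  unfold ruNorm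
  let e : RuIdx ≃ RuIdx := Equiv.prodCongr (Equiv.addRight (1 : Fin 7)) (Equiv.refl _)
  rw [← Equiv.sum_comp e (fun p => (v p).norm)]
  refine Finset.sum_congr rfl fun p _ => ?_
  obtain ⟨n, t⟩ := p
  simp [e, ruShift]

end Cfsg.Agent.Lib.Helper8.RuLat
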