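import Cfsg.Agent.Lib.Helper8.RuLat.MemM

/-!
The `(1+i)`-adic layers of the Rudvalis lattice: the parity homomorphism, the binary codes cut out by the
residues of the check vectors, and their small-weight words. (helper8)
-/

set_option autoImplicit false

namespace Cfsg.Agent.Lib.Helper8.RuLat

open Cfsg.Spor

/-- the parity homomorphism `ℤ[i] → 𝔽₂` with kernel `(1+i)` -/
def par : GaussianInt →+* ZMod 2 := Zsqrtd.lift ⟨1, by decide⟩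

theorem par_apply (z : GaussianInt) : par z = (z.re : ZMod 2) + (z.im : ZMod 2) := by
  simp [par, Zsqrtd.lift]

theorem par_piG : par piG = 0 := by
  rw [par_apply]; decide

theorem par_star (z : GaussianInt) : par (star z) = par z := by
  rw [par_apply, par_apply]
  simp [ZMod.neg_eq_self_mod_two]

theorem piG_ne_zero : piG ≠ 0 := by decide

theorem piG_pow_four : piG ^ 4 = -4 := by decide

theorem norm_piG : piG.norm = 2 := by decide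

theorem star_star_piG : star (star piG) = piG := by decide

theorem piG_dvd_of_par {z : GaussianInt} (h : par z = 0) : piG ∣ z := by
  rw [par_apply] at h
  have h2 : ((z.re + z.im : ℤ) : ZMod 2) = 0 := by push_cast; exact h
  rw [ZMod.intCast_zmod_eq_zero_iff_dvd] at h2
  obtain ⟨c, hc⟩ := h2
  refine ⟨⟨c, z.im - c⟩, ?_⟩
  obtain ⟨a, b⟩ := z
  simp only [piG, Zsqrtd.ext_iff, Zsqrtd.re_mul, Zsqrtd.im_mul] at hc ⊢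
  constructor <;> omega

theorem par_val_le_norm (z : GaussianInt) : (((par z).val : ℕ) : ℤ) ≤ z.norm := by
  have hnn : 0 ≤ z.norm := Zsqrtd.norm_nonneg (by decide) z
  by_cases h : par z = 0
  · rw [h]; simpa using hnn
  · have hz : z ≠ 0 := by
      rintro rfl
      exact h (map_zero par)
    have hne : z.norm ≠ 0 := fun h0 => hz ((Zsqrtd.norm_eq_zero_iff (by decide) z).1 h0)
    have h1 : (par z).val ≤ 1 := by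
      have := ZMod.val_lt (par z)
      omega
    have : (((par z).val : ℕ) : ℤ) ≤ 1 := by exact_mod_cast h1
    omega

/-- number of odd coordinates is at most the norm -/
theorem weight_le_ruNorm (x : RuVec) : ((∑ q, (par (x q)).val : ℕ) : ℤ) ≤ ruNorm x := by
  unfold ruNorm
  push_cast
  exact Finset.sum_le_sum fun q _ => par_val_le_norm (x q)

/-- a `7 × 4` array of bits as a function on the index set -/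
def ofArr2 (A : Fin 7 → Fin 4 → ZMod 2) : RuIdx → ZMod 2 := fun p => A p.1 p.2

/-! ### linear codes given by a check matrix, with a systematic generator matrix -/

theorem code_param {ι κ : Type*} [Fintype ι] [Fintype κ] [DecidableEq ι]
    (H : κ → RuIdx → ZMod 2) (G : ι → RuIdx → ZMod 2) (info : ι → RuIdx) (K : RuIdx → κ → ZMod 2)
    (hHG : ∀ j i, ∑ q, H j q * G i q = 0)
    (hG : ∀ i i', G i (info i') = if i = i' then 1 else 0)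
    (hK : ∀ p q, (∀ i, info i ≠ q) → ∑ j, K p j * H j q = if p = q then 1 else 0)
    (s : RuIdx → ZMod 2) (hs : ∀ j, ∑ q, H j q * s q = 0) :
    s = fun q => ∑ i, s (info i) * G i q := by
  set d : RuIdx → ZMod 2 := fun q => s q + ∑ i, s (info i) * G i q with hd
  have hHd : ∀ j, ∑ q, H j q * d q = 0 := by
    intro j
    simp only [hd, mul_add, Finset.sum_add_distrib, hs j, zero_add, Finset.mul_sum]
    rw [Finset.sum_comm]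
    apply Finset.sum_eq_zero
    intro i _
    have : ∑ q, H j q * (s (info i) * G i q) = s (info i) * ∑ q, H j q * G i q := by
      rw [Finset.mul_sum]
      refine Finset.sum_congr rfl fun q _ => ?_
      ring
    rw [this, hHG j i, mul_zero]
  have hdinfo : ∀ i', d (info i') = 0 := by
    intro i'
    simp only [hd, hG]
    rw [Finset.sum_eq_single i']
    · simp only [if_true, mul_one]
      exact CharTwo.add_self_eq_zero _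
    · intro b _ hb
      simp [hb]
    · intro h
      exact absurd (Finset.mem_univ _) h
  have hd0 : ∀ p, d p = 0 := by
    intro p
    have h1 : d p = ∑ q, (if p = q then 1 else 0) * d q := by
      simp
    have h2 : ∑ q, (if p = q then (1 : ZMod 2) else 0) * d q = ∑ q, (∑ j, K p j * H j q) * d q := by
      refine Finset.sum_congr rfl fun q _ => ?_
      by_cases hq : ∀ i, info i ≠ q
      · rw [hK p q hq]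
      · push_neg at hq
        obtain ⟨i, rfl⟩ := hq
        rw [hdinfo i, mul_zero, mul_zero]
    rw [h1, h2]
    have h3 : ∑ q, (∑ j, K p j * H j q) * d q = ∑ j, K p j * ∑ q, H j q * d q := by
      simp only [Finset.sum_mul, Finset.mul_sum]
      rw [Finset.sum_comm]
      refine Finset.sum_congr rfl fun j _ => ?_
      refine Finset.sum_congr rfl fun q _ => ?_
      ring
    rw [h3]
    apply Finset.sum_eq_zero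
    intro j _
    rw [hHd j, mul_zero]
  funext q
  have := hd0 q
  simp only [hd] at this
  exact (CharTwo.add_eq_zero.1 this)

/-- a check matrix with nonzero, pairwise distinct columns has no nonzero word of weight at most 2 -/
theorem cols_lemma {κ : Type*} [Fintype κ] (H : κ → RuIdx → ZMod 2)
    (h1 : ∀ p, ∃ j, H j p ≠ 0) (h2 : ∀ p q, p ≠ q → ∃ j, H j p ≠ H j q)
    (s : RuIdx → ZMod 2) (hs : ∀ j, ∑ q, H j q * s q = 0) (hw : ∑ q, (s q).val ≤ 2) : s = 0 := by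
  classical
  set T : Finset RuIdx := Finset.univ.filter fun q => s q ≠ 0 with hT
  have hs1 : ∀ q, s q ≠ 0 → s q = 1 := by
    intro q hq
    have := ZMod.val_lt (s q)
    have hv : (s q).val ≠ 0 := fun h => hq ((ZMod.val_eq_zero _).1 h)
    have : (s q).val = 1 := by omega
    rw [← ZMod.natCast_zmod_val (s q), this]
    rfl
  have hcard : T.card = ∑ q, (s q).val := by
    rw [hT, Finset.card_eq_sum_ones, Finset.sum_filter]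
    refine Finset.sum_congr rfl fun q _ => ?_
    by_cases hq : s q = 0
    · simp [hq]
    · simp [hq, hs1 q hq, ZMod.val_one]
  have hsum : ∀ j, ∑ q ∈ T, H j q = 0 := by
    intro j
    rw [← hs j, hT, Finset.sum_filter]
    refine Finset.sum_congr rfl fun q _ => ?_
    by_cases hq : s q = 0
    · simp [hq]
    · simp [hq, hs1 q hq]
  have hT2 : T.card ≤ 2 := by rw [hcard]; exact hw
  have hTe : T = ∅ := by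
    interval_cases hc : T.card
    · exact Finset.card_eq_zero.1 hc
    · obtain ⟨p, hp⟩ := Finset.card_eq_one.1 hc
      obtain ⟨j, hj⟩ := h1 p
      have := hsum j
      rw [hp, Finset.sum_singleton] at this
      exact absurd this hj
    · obtain ⟨p, q, hpq, hp⟩ := Finset.card_eq_two.1 hc
      obtain ⟨j, hj⟩ := h2 p q hpq
      have := hsum j
      rw [hp, Finset.sum_pair hpq] at this
      exact absurd (CharTwo.add_eq_zero.1 this) hj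
  funext q
  by_contra hq
  have : q ∈ T := by
    rw [hT, Finset.mem_filter]
    exact ⟨Finset.mem_univ _, hq⟩
  rw [hTe] at this
  exact absurd this (Finset.notMem_empty _)

/-- residues of the adapted vectors modulo `1+i` -/
def Hm : Fin 19 → RuIdx → ZMod 2 := ![
  ofArr2 ![![1, 1, 1, 1], ![1, 0, 0, 1], ![1, 1, 0, 0], ![1, 1, 0, 0], ![1, 0, 1, 0], ![1, 0, 0, 1], ![0, 1, 0, 1]],
  ofArr2 ![![0, 0, 1, 1], ![0, 0, 1, 1], ![1, 0, 1, 0], ![0, 1, 1, 0], ![0, 1, 0, 1], ![1, 1, 1, 1], ![0, 1, 1, 0]],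
  ofArr2 ![![0, 0, 1, 1], ![1, 0, 1, 0], ![1, 0, 0, 1], ![1, 0, 1, 0], ![0, 0, 0, 0], ![0, 1, 1, 0], ![1, 1, 0, 0]],
  ofArr2 ![![1, 0, 0, 1], ![1, 1, 0, 0], ![1, 1, 0, 0], ![0, 1, 0, 1], ![1, 0, 0, 1], ![0, 1, 0, 1], ![0, 0, 0, 0]],
  ofArr2 ![![1, 0, 0, 1], ![1, 1, 0, 0], ![0, 0, 1, 1], ![0, 1, 0, 1], ![1, 0, 0, 1], ![1, 0, 1, 0], ![0, 0, 0, 0]],
  ofArr2 ![![0, 0, 0, 0], ![1, 1, 1, 1], ![1, 1, 1, 1], ![1, 1, 1, 1], ![1, 1, 1, 1], ![0, 0, 0, 0], ![0, 0, 0, 0]],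
  ofArr2 ![![1, 1, 1, 1], ![0, 0, 0, 0], ![0, 0, 0, 0], ![1, 1, 1, 1], ![0, 0, 0, 0], ![0, 0, 0, 0], ![0, 0, 0, 0]],
  ofArr2 ![![1, 1, 1, 1], ![0, 0, 0, 0], ![1, 1, 1, 1], ![0, 0, 0, 0], ![0, 0, 0, 0], ![0, 0, 0, 0], ![0, 0, 0, 0]],
  ofArr2 ![![1, 1, 1, 1], ![1, 1, 1, 1], ![0, 0, 0, 0], ![0, 0, 0, 0], ![0, 0, 0, 0], ![0, 0, 0, 0], ![0, 0, 0, 0]],
  ofArr2 ![![0, 0, 1, 1], ![1, 1, 0, 0], ![1, 0, 1, 0], ![1, 0, 0, 1], ![0, 1, 0, 1], ![1, 1, 1, 1], ![1, 0, 0, 1]],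
  ofArr2 ![![0, 1, 1, 0], ![0, 0, 1, 1], ![0, 1, 1, 0], ![1, 0, 1, 0], ![0, 1, 1, 0], ![1, 0, 0, 1], ![1, 1, 1, 1]],
  ofArr2 ![![1, 1, 1, 1], ![1, 1, 1, 1], ![1, 1, 1, 1], ![0, 1, 1, 0], ![0, 0, 1, 1], ![1, 1, 1, 1], ![1, 0, 1, 0]],
  ofArr2 ![![0, 0, 1, 1], ![1, 1, 0, 0], ![1, 1, 0, 0], ![0, 0, 0, 0], ![1, 0, 1, 0], ![0, 0, 0, 0], ![1, 1, 0, 0]],
  ofArr2 ![![0, 1, 1, 0], ![0, 0, 0, 0], ![1, 1, 0, 0], ![1, 1, 1, 1], ![0, 1, 0, 1], ![0, 1, 1, 0], ![0, 0, 0, 0]],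
  ofArr2 ![![0, 1, 0, 1], ![0, 1, 1, 0], ![0, 0, 0, 0], ![1, 0, 1, 0], ![0, 1, 1, 0], ![0, 0, 0, 0], ![0, 0, 0, 0]],
  ofArr2 ![![0, 0, 0, 0], ![1, 0, 0, 1], ![1, 1, 1, 1], ![0, 0, 1, 1], ![0, 0, 0, 0], ![0, 0, 0, 0], ![0, 0, 0, 0]],
  ofArr2 ![![0, 0, 1, 1], ![0, 1, 1, 0], ![1, 1, 0, 0], ![0, 0, 0, 0], ![0, 0, 0, 0], ![0, 0, 0, 0], ![0, 0, 0, 0]],
  ofArr2 ![![0, 1, 0, 1], ![0, 1, 1, 0], ![0, 0, 0, 0], ![0, 0, 0, 0], ![0, 0, 0, 0], ![0, 0, 0, 0], ![0, 0, 0, 0]],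
  ofArr2 ![![1, 1, 0, 1], ![1, 0, 1, 1], ![0, 1, 1, 1], ![0, 1, 1, 1], ![1, 0, 1, 1], ![1, 0, 0, 0], ![1, 0, 0, 0]]]

def info0 : Fin 9 → RuIdx := ![(1, 3), (2, 3), (3, 3), (4, 3), (5, 2), (5, 3), (6, 1), (6, 2), (6, 3)]

def Gm0 : Fin 9 → RuIdx → ZMod 2 := ![
  ofArr2 ![![1, 1, 1, 1], ![1, 1, 1, 1], ![0, 0, 0, 0], ![0, 0, 0, 0], ![0, 0, 0, 0], ![0, 0, 0, 0], ![0, 0, 0, 0]],
  ofArr2 ![![1, 1, 1, 1], ![0, 0, 0, 0], ![1, 1, 1, 1], ![0, 0, 0, 0], ![0, 0, 0, 0], ![0, 0, 0, 0], ![0, 0, 0, 0]],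
  ofArr2 ![![1, 1, 1, 1], ![0, 0, 0, 0], ![0, 0, 0, 0], ![1, 1, 1, 1], ![0, 0, 0, 0], ![0, 0, 0, 0], ![0, 0, 0, 0]],
  ofArr2 ![![1, 1, 1, 1], ![0, 0, 0, 0], ![0, 0, 0, 0], ![0, 0, 0, 0], ![1, 1, 1, 1], ![0, 0, 0, 0], ![0, 0, 0, 0]],
  ofArr2 ![![0, 1, 1, 0], ![1, 1, 0, 0], ![1, 1, 0, 0], ![1, 0, 1, 0], ![0, 1, 1, 0], ![1, 0, 1, 0], ![0, 0, 0, 0]],
  ofArr2 ![![1, 0, 0, 1], ![1, 1, 0, 0], ![1, 1, 0, 0], ![1, 0, 1, 0], ![0, 1, 1, 0], ![0, 1, 0, 1], ![0, 0, 0, 0]],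
  ofArr2 ![![1, 0, 1, 0], ![0, 1, 1, 0], ![1, 0, 1, 0], ![0, 0, 0, 0], ![0, 1, 1, 0], ![1, 1, 0, 0], ![1, 1, 0, 0]],
  ofArr2 ![![0, 1, 1, 0], ![1, 0, 1, 0], ![0, 0, 0, 0], ![0, 1, 1, 0], ![1, 1, 0, 0], ![1, 1, 0, 0], ![1, 0, 1, 0]],
  ofArr2 ![![0, 0, 1, 1], ![1, 1, 0, 0], ![1, 0, 1, 0], ![0, 1, 1, 0], ![1, 0, 1, 0], ![0, 0, 0, 0], ![1, 0, 0, 1]]]

def Km0A : Fin 7 → Fin 4 → Fin 19 → ZMod 2 := ![
  ![![0, 1, 0, 1, 1, 1, 1, 0, 0, 0, 0, 1, 0, 1, 1, 1, 0, 1, 1], ![1, 0, 0, 1, 0, 0, 1, 1, 0, 1, 0, 1, 1, 1, 0, 0, 1, 1, 1], ![0, 0, 0, 0, 1, 1, 0, 0, 1, 1, 0, 1, 1, 0, 0, 1, 1, 1, 1], ![0, 1, 1, 0, 0, 1, 0, 1, 1, 1, 0, 1, 0, 0, 1, 0, 0, 1, 1]],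
  ![![0, 1, 0, 1, 0, 0, 1, 0, 0, 1, 0, 0, 1, 1, 1, 0, 1, 1, 0], ![0, 1, 0, 0, 1, 1, 1, 0, 1, 1, 0, 1, 0, 1, 0, 1, 0, 0, 0], ![1, 0, 1, 1, 1, 0, 0, 0, 0, 1, 0, 1, 1, 0, 1, 1, 1, 1, 0], ![0, 0, 0, 0, 0, 0, 0, 0, 0, 0, 0, 0, 0, 0, 0, 0, 0, 0, 0]],
  ![![1, 1, 0, 1, 0, 0, 0, 0, 0, 1, 1, 0, 0, 1, 0, 1, 1, 1, 0], ![0, 1, 0, 0, 1, 1, 1, 1, 1, 1, 1, 0, 0, 0, 0, 0, 0, 0, 0], ![0, 0, 1, 1, 1, 0, 1, 0, 1, 1, 0, 0, 0, 1, 0, 1, 1, 1, 0], ![0, 0, 0, 0, 0, 0, 0, 0, 0, 0, 0, 0, 0, 0, 0, 0, 0, 0, 0]],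
  ![![0, 1, 1, 0, 1, 0, 1, 1, 1, 1, 1, 0, 1, 1, 0, 1, 1, 1, 0], ![0, 0, 1, 1, 1, 0, 1, 0, 1, 0, 1, 0, 0, 0, 1, 0, 0, 0, 0], ![1, 1, 1, 1, 0, 1, 1, 1, 0, 0, 0, 0, 1, 1, 1, 1, 1, 1, 0], ![0, 0, 0, 0, 0, 0, 0, 0, 0, 0, 0, 0, 0, 0, 0, 0, 0, 0, 0]],
  ![![0, 0, 1, 1, 1, 1, 1, 1, 0, 0, 1, 0, 0, 0, 0, 0, 0, 1, 0], ![0, 0, 0, 0, 1, 0, 1, 1, 0, 0, 0, 1, 1, 1, 0, 1, 1, 0, 0], ![1, 0, 0, 1, 0, 1, 1, 1, 1, 1, 1, 1, 1, 1, 0, 1, 1, 1, 0], ![0, 0, 0, 0, 0, 0, 0, 0, 0, 0, 0, 0, 0, 0, 0, 0, 0, 0, 0]],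
  ![![0, 0, 0, 1, 0, 0, 0, 0, 0, 0, 0, 1, 1, 0, 0, 1, 0, 1, 0], ![1, 0, 1, 0, 1, 1, 0, 1, 0, 1, 0, 1, 1, 0, 0, 1, 0, 1, 0], ![0, 0, 0, 0, 0, 0, 0, 0, 0, 0, 0, 0, 0, 0, 0, 0, 0, 0, 0], ![0, 0, 0, 0, 0, 0, 0, 0, 0, 0, 0, 0, 0, 0, 0, 0, 0, 0, 0]],
  ![![0, 1, 0, 0, 0, 0, 1, 0, 1, 1, 0, 0, 0, 0, 0, 0, 0, 0, 0], ![0, 0, 0, 0, 0, 0, 0, 0, 0, 0, 0, 0, 0, 0, 0, 0, 0, 0, 0], ![0, 0, 0, 0, 0, 0, 0, 0, 0, 0, 0, 0, 0, 0, 0, 0, 0, 0, 0], ![0, 0, 0, 0, 0, 0, 0, 0, 0, 0, 0, 0, 0, 0, 0, 0, 0, 0, 0]]]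

def Km0 : RuIdx → Fin 19 → ZMod 2 := fun p => Km0A p.1 p.2

def info1 : Fin 10 → RuIdx := ![(0, 3), (1, 3), (2, 3), (3, 3), (4, 3), (5, 2), (5, 3), (6, 1), (6, 2), (6, 3)]

def Gm1 : Fin 10 → RuIdx → ZMod 2 := ![
  ofArr2 ![![1, 1, 1, 1], ![0, 0, 0, 0], ![0, 0, 0, 0], ![0, 0, 0, 0], ![0, 0, 0, 0], ![0, 0, 0, 0], ![0, 0, 0, 0]],
  ofArr2 ![![0, 0, 0, 0], ![1, 1, 1, 1], ![0, 0, 0, 0], ![0, 0, 0, 0], ![0, 0, 0, 0], ![0, 0, 0, 0], ![0, 0, 0, 0]],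
  ofArr2 ![![0, 0, 0, 0], ![0, 0, 0, 0], ![1, 1, 1, 1], ![0, 0, 0, 0], ![0, 0, 0, 0], ![0, 0, 0, 0], ![0, 0, 0, 0]],
  ofArr2 ![![0, 0, 0, 0], ![0, 0, 0, 0], ![0, 0, 0, 0], ![1, 1, 1, 1], ![0, 0, 0, 0], ![0, 0, 0, 0], ![0, 0, 0, 0]],
  ofArr2 ![![0, 0, 0, 0], ![0, 0, 0, 0], ![0, 0, 0, 0], ![0, 0, 0, 0], ![1, 1, 1, 1], ![0, 0, 0, 0], ![0, 0, 0, 0]],
  ofArr2 ![![0, 1, 1, 0], ![1, 1, 0, 0], ![1, 1, 0, 0], ![1, 0, 1, 0], ![0, 1, 1, 0], ![1, 0, 1, 0], ![0, 0, 0, 0]],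
  ofArr2 ![![0, 1, 1, 0], ![1, 1, 0, 0], ![1, 1, 0, 0], ![1, 0, 1, 0], ![0, 1, 1, 0], ![0, 1, 0, 1], ![0, 0, 0, 0]],
  ofArr2 ![![1, 0, 1, 0], ![0, 1, 1, 0], ![1, 0, 1, 0], ![0, 0, 0, 0], ![0, 1, 1, 0], ![1, 1, 0, 0], ![1, 1, 0, 0]],
  ofArr2 ![![0, 1, 1, 0], ![1, 0, 1, 0], ![0, 0, 0, 0], ![0, 1, 1, 0], ![1, 1, 0, 0], ![1, 1, 0, 0], ![1, 0, 1, 0]],
  ofArr2 ![![1, 1, 0, 0], ![1, 1, 0, 0], ![1, 0, 1, 0], ![0, 1, 1, 0], ![1, 0, 1, 0], ![0, 0, 0, 0], ![1, 0, 0, 1]]]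

def Km1A : Fin 7 → Fin 4 → Fin 18 → ZMod 2 := ![
  ![![0, 0, 1, 1, 1, 0, 1, 1, 1, 1, 0, 0, 0, 1, 0, 1, 0, 0], ![1, 1, 1, 1, 0, 1, 1, 0, 1, 0, 0, 0, 1, 1, 1, 0, 1, 0], ![0, 1, 1, 0, 1, 0, 0, 1, 0, 0, 0, 0, 1, 0, 1, 1, 1, 0], ![0, 0, 0, 0, 0, 0, 0, 0, 0, 0, 0, 0, 0, 0, 0, 0, 0, 0]],
  ![![0, 1, 0, 1, 0, 0, 1, 0, 0, 1, 0, 0, 1, 1, 1, 0, 1, 1], ![0, 1, 0, 0, 1, 1, 1, 0, 1, 1, 0, 1, 0, 1, 0, 1, 0, 0], ![1, 0, 1, 1, 1, 0, 0, 0, 0, 1, 0, 1, 1, 0, 1, 1, 1, 1], ![0, 0, 0, 0, 0, 0, 0, 0, 0, 0, 0, 0, 0, 0, 0, 0, 0, 0]],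
  ![![1, 1, 0, 1, 0, 0, 0, 0, 0, 1, 1, 0, 0, 1, 0, 1, 1, 1], ![0, 1, 0, 0, 1, 1, 1, 1, 1, 1, 1, 0, 0, 0, 0, 0, 0, 0], ![0, 0, 1, 1, 1, 0, 1, 0, 1, 1, 0, 0, 0, 1, 0, 1, 1, 1], ![0, 0, 0, 0, 0, 0, 0, 0, 0, 0, 0, 0, 0, 0, 0, 0, 0, 0]],
  ![![0, 1, 1, 0, 1, 0, 1, 1, 1, 1, 1, 0, 1, 1, 0, 1, 1, 1], ![0, 0, 1, 1, 1, 0, 1, 0, 1, 0, 1, 0, 0, 0, 1, 0, 0, 0], ![1, 1, 1, 1, 0, 1, 1, 1, 0, 0, 0, 0, 1, 1, 1, 1, 1, 1], ![0, 0, 0, 0, 0, 0, 0, 0, 0, 0, 0, 0, 0, 0, 0, 0, 0, 0]],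
  ![![0, 0, 1, 1, 1, 1, 1, 1, 0, 0, 1, 0, 0, 0, 0, 0, 0, 1], ![0, 0, 0, 0, 1, 0, 1, 1, 0, 0, 0, 1, 1, 1, 0, 1, 1, 0], ![1, 0, 0, 1, 0, 1, 1, 1, 1, 1, 1, 1, 1, 1, 0, 1, 1, 1], ![0, 0, 0, 0, 0, 0, 0, 0, 0, 0, 0, 0, 0, 0, 0, 0, 0, 0]],
  ![![0, 0, 0, 1, 0, 0, 0, 0, 0, 0, 0, 1, 1, 0, 0, 1, 0, 1], ![1, 0, 1, 0, 1, 1, 0, 1, 0, 1, 0, 1, 1, 0, 0, 1, 0, 1], ![0, 0, 0, 0, 0, 0, 0, 0, 0, 0, 0, 0, 0, 0, 0, 0, 0, 0], ![0, 0, 0, 0, 0, 0, 0, 0, 0, 0, 0, 0, 0, 0, 0, 0, 0, 0]],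
  ![![0, 1, 0, 0, 0, 0, 1, 0, 1, 1, 0, 0, 0, 0, 0, 0, 0, 0], ![0, 0, 0, 0, 0, 0, 0, 0, 0, 0, 0, 0, 0, 0, 0, 0, 0, 0], ![0, 0, 0, 0, 0, 0, 0, 0, 0, 0, 0, 0, 0, 0, 0, 0, 0, 0], ![0, 0, 0, 0, 0, 0, 0, 0, 0, 0, 0, 0, 0, 0, 0, 0, 0, 0]]]

def Km1 : RuIdx → Fin 18 → ZMod 2 := fun p => Km1A p.1 p.2

set_option maxRecDepth 100000 in
theorem Hm_eq : ∀ j p, Hm j p = par (ruY j p) := by
  simp only [par_apply]
  decide +kernel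

/-- the indicator of the union of two quaternion blocks -/
def bp (n m : Fin 7) : RuIdx → ZMod 2 := fun p => if p.1 = n ∨ p.1 = m then 1 else 0

/-- the indicator of one quaternion block -/
def blk (n : Fin 7) : RuIdx → ZMod 2 := fun p => if p.1 = n then 1 else 0

set_option maxRecDepth 100000 in
theorem HG0 : ∀ (j : Fin 19) (i : Fin 9), ∑ q, Hm j q * Gm0 i q = 0 := by decide +kernel

set_option maxRecDepth 100000 in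
theorem Ginfo0 : ∀ i i' : Fin 9, Gm0 i (info0 i') = if i = i' then 1 else 0 := by decide +kernel

set_option maxRecDepth 100000 in
theorem KH0 : ∀ p q, (∀ i, info0 i ≠ q) → ∑ j, Km0 p j * Hm j q = if p = q then 1 else 0 := by
  decide +kernel

/-- the codeword with the given information bits -/
def word0 (u0 u1 u2 u3 u4 u5 u6 u7 u8 : ZMod 2) : RuIdx → ZMod 2 := fun q =>
  u0 * Gm0 0 q + u1 * Gm0 1 q + u2 * Gm0 2 q + u3 * Gm0 3 q + u4 * Gm0 4 q + u5 * Gm0 5 q + u6 * Gm0 6 q + u7 * Gm0 7 q + u8 * Gm0 8 q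

set_option maxRecDepth 100000 in
set_option maxHeartbeats 0 in
theorem words0 : ∀ u0 u1 u2 u3 u4 u5 u6 u7 u8 : ZMod 2,
    9 ≤ ∑ q, (word0 u0 u1 u2 u3 u4 u5 u6 u7 u8 q).val ∨ word0 u0 u1 u2 u3 u4 u5 u6 u7 u8 = 0 ∨
      ∃ n m : Fin 7, n < m ∧ word0 u0 u1 u2 u3 u4 u5 u6 u7 u8 = bp n m := by
  decide +kernel

theorem code0 (s : RuIdx → ZMod 2) (hs : ∀ j, ∑ q, Hm j q * s q = 0) :
    9 ≤ ∑ q, (s q).val ∨ s = 0 ∨ ∃ n m : Fin 7, n < m ∧ s = bp n m := by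
  have h := code_param Hm Gm0 info0 Km0 HG0 Ginfo0 KH0 s hs
  have h2 : s = word0 (s (info0 0)) (s (info0 1)) (s (info0 2)) (s (info0 3)) (s (info0 4))
      (s (info0 5)) (s (info0 6)) (s (info0 7)) (s (info0 8)) := by
    funext q
    refine (congrFun h q).trans ?_
    simp only [word0, Fin.sum_univ_succ, Fin.sum_univ_zero, add_zero, ← add_assoc]
    rfl
  have hw := words0 (s (info0 0)) (s (info0 1)) (s (info0 2)) (s (info0 3)) (s (info0 4))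
      (s (info0 5)) (s (info0 6)) (s (info0 7)) (s (info0 8))
  rw [← h2] at hw
  exact hw

/-- the first 18 check vectors -/
def Hm1 : Fin 18 → RuIdx → ZMod 2 := fun j => Hm (Fin.castLE (by decide) j)

set_option maxRecDepth 100000 in
theorem HG1 : ∀ (j : Fin 18) (i : Fin 10), ∑ q, Hm1 j q * Gm1 i q = 0 := by decide +kernel

set_option maxRecDepth 100000 in
theorem Ginfo1 : ∀ i i' : Fin 10, Gm1 i (info1 i') = if i = i' then 1 else 0 := by decide +kernel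

set_option maxRecDepth 100000 in
theorem KH1 : ∀ p q, (∀ i, info1 i ≠ q) → ∑ j, Km1 p j * Hm1 j q = if p = q then 1 else 0 := by
  decide +kernel

/-- the codeword with the given information bits -/
def word1 (u0 u1 u2 u3 u4 u5 u6 u7 u8 u9 : ZMod 2) : RuIdx → ZMod 2 := fun q =>
  u0 * Gm1 0 q + u1 * Gm1 1 q + u2 * Gm1 2 q + u3 * Gm1 3 q + u4 * Gm1 4 q + u5 * Gm1 5 q + u6 * Gm1 6 q + u7 * Gm1 7 q + u8 * Gm1 8 q + u9 * Gm1 9 q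

set_option maxRecDepth 100000 in
set_option maxHeartbeats 0 in
theorem words1 : ∀ u0 u1 u2 u3 u4 u5 u6 u7 u8 u9 : ZMod 2,
    5 ≤ ∑ q, (word1 u0 u1 u2 u3 u4 u5 u6 u7 u8 u9 q).val ∨ word1 u0 u1 u2 u3 u4 u5 u6 u7 u8 u9 = 0 ∨
      ∃ n : Fin 7, word1 u0 u1 u2 u3 u4 u5 u6 u7 u8 u9 = blk n := by
  decide +kernel

theorem code1 (s : RuIdx → ZMod 2) (hs : ∀ j, ∑ q, Hm1 j q * s q = 0) :
    5 ≤ ∑ q, (s q).val ∨ s = 0 ∨ ∃ n : Fin 7, s = blk n := by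
  have h := code_param Hm1 Gm1 info1 Km1 HG1 Ginfo1 KH1 s hs
  have h2 : s = word1 (s (info1 0)) (s (info1 1)) (s (info1 2)) (s (info1 3)) (s (info1 4)) (s (info1 5)) (s (info1 6)) (s (info1 7)) (s (info1 8)) (s (info1 9)) := by
    funext q
    refine (congrFun h q).trans ?_
    simp only [word1, Fin.sum_univ_succ, Fin.sum_univ_zero, add_zero, ← add_assoc]
    rfl
  have hw := words1 (s (info1 0)) (s (info1 1)) (s (info1 2)) (s (info1 3)) (s (info1 4)) (s (info1 5)) (s (info1 6)) (s (info1 7)) (s (info1 8)) (s (info1 9))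
  rw [← h2] at hw
  exact hw

/-- the first 10 check vectors -/
def Hm2 : Fin 10 → RuIdx → ZMod 2 := fun j => Hm (Fin.castLE (by decide) j)

/-- the first 9 check vectors -/
def Hm3 : Fin 9 → RuIdx → ZMod 2 := fun j => Hm (Fin.castLE (by decide) j)

set_option maxRecDepth 100000 in
theorem cols2a : ∀ p, ∃ j, Hm2 j p ≠ 0 := by decide +kernel

set_option maxRecDepth 100000 in
theorem cols2b : ∀ p q, p ≠ q → ∃ j, Hm2 j p ≠ Hm2 j q := by decide +kernel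

set_option maxRecDepth 100000 in
theorem cols3a : ∀ p, ∃ j, Hm3 j p ≠ 0 := by decide +kernel

set_option maxRecDepth 100000 in
theorem cols3b : ∀ p q, p ≠ q → ∃ j, Hm3 j p ≠ Hm3 j q := by decide +kernel

theorem code2 (s : RuIdx → ZMod 2) (hs : ∀ j, ∑ q, Hm2 j q * s q = 0) (hw : ∑ q, (s q).val ≤ 2) :
    s = 0 :=
  cols_lemma Hm2 cols2a cols2b s hs hw

theorem code3 (s : RuIdx → ZMod 2) (hs : ∀ j, ∑ q, Hm3 j q * s q = 0) (hw : ∑ q, (s q).val ≤ 2) :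
    s = 0 :=
  cols_lemma Hm3 cols3a cols3b s hs hw

end Cfsg.Agent.Lib.Helper8.RuLat
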