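import Cfsg.Agent.Lib.Helper8.RuLat.Basic

/-!
Data for the Rudvalis lattice: an adapted `ℤ[i]`-basis (`ruY j` lies in the `kkv j`-th layer of the
`(1+i)`-adic filtration), and certificates expressing the images of the basis vectors under the adjoint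
monomial maps, and the table vectors, as combinations of the basis modulo 4. Generated by a script. (helper8)
-/

set_option autoImplicit false

namespace Cfsg.Agent.Lib.Helper8.RuLat

open Cfsg.Spor

/-- the prime `1 + i` -/
def piG : GaussianInt := ⟨1, 1⟩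

/-- layer of the `j`-th basis vector -/
def kkv : Fin 19 → ℕ := ![0, 0, 0, 0, 0, 0, 0, 0, 0, 1, 2, 2, 2, 2, 2, 2, 2, 2, 3]

/-- the adapted vectors: `(1-i)^(kkv j) • ruY j` lies in the lattice -/
def ruY : Fin 19 → RuVec := ![
  ruOfArray ![![⟨0, -1⟩, ⟨1, 0⟩, ⟨1, 0⟩, ⟨0, 1⟩],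
      ![⟨1, 0⟩, ⟨0, 0⟩, ⟨0, 0⟩, ⟨1, 0⟩],
      ![⟨1, 0⟩, ⟨-1, 0⟩, ⟨0, 0⟩, ⟨0, 0⟩],
      ![⟨-1, 0⟩, ⟨0, 1⟩, ⟨0, 0⟩, ⟨0, 0⟩],
      ![⟨-1, 0⟩, ⟨0, 0⟩, ⟨-1, 0⟩, ⟨0, 0⟩],
      ![⟨0, 1⟩, ⟨0, 0⟩, ⟨0, 0⟩, ⟨-1, 0⟩],
      ![⟨0, 0⟩, ⟨0, -1⟩, ⟨0, 0⟩, ⟨0, -1⟩]],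
  ruOfArray ![![⟨0, 0⟩, ⟨0, 0⟩, ⟨0, -1⟩, ⟨-1, 0⟩],
      ![⟨0, 0⟩, ⟨0, 0⟩, ⟨0, -1⟩, ⟨0, -1⟩],
      ![⟨0, -1⟩, ⟨0, 0⟩, ⟨0, 1⟩, ⟨0, 0⟩],
      ![⟨0, 0⟩, ⟨-1, 0⟩, ⟨-1, 0⟩, ⟨0, 0⟩],
      ![⟨0, 0⟩, ⟨0, -1⟩, ⟨0, 0⟩, ⟨0, -1⟩],
      ![⟨-1, 0⟩, ⟨1, 0⟩, ⟨0, 1⟩, ⟨0, 1⟩],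
      ![⟨0, 0⟩, ⟨1, 0⟩, ⟨0, 1⟩, ⟨0, 0⟩]],
  ruOfArray ![![⟨1, 1⟩, ⟨2, 0⟩, ⟨-1, 0⟩, ⟨0, -1⟩],
      ![⟨-1, 0⟩, ⟨0, 0⟩, ⟨1, 0⟩, ⟨0, 0⟩],
      ![⟨-1, 0⟩, ⟨1, 1⟩, ⟨0, 0⟩, ⟨1, 0⟩],
      ![⟨1, 0⟩, ⟨1, -1⟩, ⟨-1, 0⟩, ⟨0, 0⟩],
      ![⟨1, -1⟩, ⟨0, 0⟩, ⟨0, 0⟩, ⟨0, 0⟩],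
      ![⟨0, 2⟩, ⟨1, 0⟩, ⟨0, -1⟩, ⟨0, 0⟩],
      ![⟨0, -1⟩, ⟨0, 1⟩, ⟨0, 0⟩, ⟨0, 2⟩]],
  ruOfArray ![![⟨-1, 0⟩, ⟨2, 0⟩, ⟨0, 0⟩, ⟨-1, 0⟩],
      ![⟨0, -1⟩, ⟨-1, 0⟩, ⟨-1, -1⟩, ⟨0, 0⟩],
      ![⟨0, -1⟩, ⟨0, -1⟩, ⟨0, 0⟩, ⟨-1, 1⟩],
      ![⟨0, 0⟩, ⟨-1, 0⟩, ⟨1, 1⟩, ⟨1, 0⟩],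
      ![⟨0, 1⟩, ⟨0, 0⟩, ⟨2, 0⟩, ⟨1, 0⟩],
      ![⟨-1, 1⟩, ⟨-1, 0⟩, ⟨1, 1⟩, ⟨1, 0⟩],
      ![⟨1, 1⟩, ⟨0, 0⟩, ⟨0, 0⟩, ⟨0, 0⟩]],
  ruOfArray ![![⟨0, 1⟩, ⟨0, 0⟩, ⟨-1, 1⟩, ⟨1, 2⟩],
      ![⟨-1, 2⟩, ⟨1, 0⟩, ⟨1, 1⟩, ⟨-1, -1⟩],
      ![⟨-1, 1⟩, ⟨1, 1⟩, ⟨0, -1⟩, ⟨2, -1⟩],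
      ![⟨0, 0⟩, ⟨1, 0⟩, ⟨-1, -1⟩, ⟨-1, 0⟩],
      ![⟨0, -1⟩, ⟨0, 0⟩, ⟨0, 0⟩, ⟨-1, 0⟩],
      ![⟨1, 2⟩, ⟨1, 1⟩, ⟨-1, 0⟩, ⟨0, 0⟩],
      ![⟨-1, -1⟩, ⟨0, 0⟩, ⟨0, 0⟩, ⟨0, 2⟩]],
  ruOfArray ![![⟨0, 2⟩, ⟨0, 0⟩, ⟨2, 2⟩, ⟨0, 0⟩],
      ![⟨2, -1⟩, ⟨0, -1⟩, ⟨-1, 0⟩, ⟨2, 1⟩],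
      ![⟨1, 0⟩, ⟨2, -1⟩, ⟨0, 1⟩, ⟨2, 1⟩],
      ![⟨-1, 0⟩, ⟨0, 1⟩, ⟨1, 0⟩, ⟨1, 0⟩],
      ![⟨0, 1⟩, ⟨1, 0⟩, ⟨1, 0⟩, ⟨-1, 0⟩],
      ![⟨0, 2⟩, ⟨-1, -1⟩, ⟨0, 0⟩, ⟨-1, 1⟩],
      ![⟨-1, 1⟩, ⟨-1, -1⟩, ⟨0, 0⟩, ⟨0, 0⟩]],
  ruOfArray ![![⟨-1, 0⟩, ⟨1, 0⟩, ⟨0, 1⟩, ⟨-1, 0⟩],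
      ![⟨0, 0⟩, ⟨0, 0⟩, ⟨2, 0⟩, ⟨2, 0⟩],
      ![⟨0, 0⟩, ⟨0, 2⟩, ⟨0, 0⟩, ⟨0, 0⟩],
      ![⟨-1, 0⟩, ⟨-1, 0⟩, ⟨1, 0⟩, ⟨0, 1⟩],
      ![⟨0, 0⟩, ⟨0, 0⟩, ⟨2, 0⟩, ⟨0, 0⟩],
      ![⟨0, 2⟩, ⟨-1, -1⟩, ⟨0, 2⟩, ⟨1, -1⟩],
      ![⟨-1, 1⟩, ⟨0, 0⟩, ⟨0, 0⟩, ⟨-1, -1⟩]],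
  ruOfArray ![![⟨2, -1⟩, ⟨1, 0⟩, ⟨1, 2⟩, ⟨-1, 2⟩],
      ![⟨0, 2⟩, ⟨0, 0⟩, ⟨1, -1⟩, ⟨1, 1⟩],
      ![⟨1, 0⟩, ⟨-1, 2⟩, ⟨0, 1⟩, ⟨1, 2⟩],
      ![⟨0, 0⟩, ⟨2, 0⟩, ⟨1, 1⟩, ⟨1, -1⟩],
      ![⟨0, 2⟩, ⟨0, 0⟩, ⟨1, -1⟩, ⟨1, -1⟩],
      ![⟨-1, -1⟩, ⟨-1, -1⟩, ⟨1, 1⟩, ⟨1, 1⟩],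
      ![⟨1, -1⟩, ⟨0, 0⟩, ⟨0, 0⟩, ⟨1, 1⟩]],
  ruOfArray ![![⟨2, -1⟩, ⟨0, -1⟩, ⟨1, 0⟩, ⟨2, -1⟩],
      ![⟨1, 2⟩, ⟨1, 0⟩, ⟨0, 1⟩, ⟨-1, 0⟩],
      ![⟨2, 0⟩, ⟨0, 0⟩, ⟨-1, -1⟩, ⟨-1, 1⟩],
      ![⟨-1, 1⟩, ⟨2, 2⟩, ⟨1, -1⟩, ⟨2, 0⟩],
      ![⟨0, 2⟩, ⟨2, 0⟩, ⟨0, 0⟩, ⟨0, 0⟩],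
      ![⟨1, 1⟩, ⟨2, 2⟩, ⟨-1, 1⟩, ⟨0, 0⟩],
      ![⟨1, 1⟩, ⟨1, 1⟩, ⟨0, 0⟩, ⟨0, 2⟩]],
  ruOfArray ![![⟨2, 0⟩, ⟨-1, -1⟩, ⟨1, 0⟩, ⟨0, 1⟩],
      ![⟨0, -1⟩, ⟨0, 1⟩, ⟨2, 0⟩, ⟨0, 0⟩],
      ![⟨1, 0⟩, ⟨2, 0⟩, ⟨0, -1⟩, ⟨0, 2⟩],
      ![⟨-1, 0⟩, ⟨0, 2⟩, ⟨1, -1⟩, ⟨0, -1⟩],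
      ![⟨1, 1⟩, ⟨1, 0⟩, ⟨1, -1⟩, ⟨0, -1⟩],
      ![⟨1, 2⟩, ⟨-1, 0⟩, ⟨1, 0⟩, ⟨0, -1⟩],
      ![⟨1, 0⟩, ⟨0, 0⟩, ⟨0, 0⟩, ⟨0, -1⟩]],
  ruOfArray ![![⟨0, 0⟩, ⟨2, -1⟩, ⟨0, -1⟩, ⟨0, 2⟩],
      ![⟨-1, 1⟩, ⟨0, 0⟩, ⟨1, 2⟩, ⟨0, 1⟩],
      ![⟨2, 2⟩, ⟨1, 0⟩, ⟨-1, 2⟩, ⟨1, -1⟩],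
      ![⟨2, -1⟩, ⟨-1, -1⟩, ⟨-1, 0⟩, ⟨0, 0⟩],
      ![⟨1, -1⟩, ⟨0, 1⟩, ⟨-1, 2⟩, ⟨-1, -1⟩],
      ![⟨2, -1⟩, ⟨2, 0⟩, ⟨-1, -1⟩, ⟨2, -1⟩],
      ![⟨2, -1⟩, ⟨0, 1⟩, ⟨1, 0⟩, ⟨2, 1⟩]],
  ruOfArray ![![⟨1, 2⟩, ⟨2, -1⟩, ⟨-1, 2⟩, ⟨0, 1⟩],
      ![⟨-1, 0⟩, ⟨-1, 2⟩, ⟨1, 2⟩, ⟨-1, 2⟩],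
      ![⟨2, -1⟩, ⟨0, 1⟩, ⟨0, -1⟩, ⟨2, -1⟩],
      ![⟨2, 0⟩, ⟨0, 1⟩, ⟨-1, 0⟩, ⟨-1, 1⟩],
      ![⟨0, 0⟩, ⟨0, 0⟩, ⟨-1, 2⟩, ⟨-1, 0⟩],
      ![⟨2, 1⟩, ⟨-1, 2⟩, ⟨0, -1⟩, ⟨1, 0⟩],
      ![⟨1, 0⟩, ⟨2, 0⟩, ⟨0, 1⟩, ⟨2, 0⟩]],
  ruOfArray ![![⟨2, 2⟩, ⟨2, 2⟩, ⟨1, 2⟩, ⟨1, 2⟩],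
      ![⟨1, 2⟩, ⟨2, 1⟩, ⟨0, 0⟩, ⟨2, 2⟩],
      ![⟨-1, 0⟩, ⟨-1, 0⟩, ⟨2, 2⟩, ⟨0, 0⟩],
      ![⟨0, 2⟩, ⟨-1, -1⟩, ⟨2, 2⟩, ⟨-1, -1⟩],
      ![⟨0, 1⟩, ⟨1, 1⟩, ⟨2, 1⟩, ⟨2, 2⟩],
      ![⟨1, 1⟩, ⟨-1, -1⟩, ⟨2, 2⟩, ⟨0, 0⟩],
      ![⟨1, 2⟩, ⟨1, 0⟩, ⟨0, 0⟩, ⟨0, 2⟩]],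
  ruOfArray ![![⟨0, 0⟩, ⟨1, 0⟩, ⟨2, 1⟩, ⟨0, 2⟩],
      ![⟨0, 2⟩, ⟨0, 2⟩, ⟨0, 0⟩, ⟨1, 1⟩],
      ![⟨2, 1⟩, ⟨2, 1⟩, ⟨-1, 1⟩, ⟨-1, -1⟩],
      ![⟨-1, 0⟩, ⟨-1, 2⟩, ⟨1, 0⟩, ⟨1, 0⟩],
      ![⟨0, 0⟩, ⟨2, 1⟩, ⟨1, -1⟩, ⟨1, 0⟩],
      ![⟨0, 0⟩, ⟨-1, 2⟩, ⟨2, -1⟩, ⟨2, 2⟩],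
      ![⟨1, -1⟩, ⟨0, 0⟩, ⟨1, -1⟩, ⟨0, 2⟩]],
  ruOfArray ![![⟨0, 2⟩, ⟨-1, 0⟩, ⟨-1, 1⟩, ⟨2, -1⟩],
      ![⟨2, 2⟩, ⟨0, 1⟩, ⟨2, -1⟩, ⟨1, -1⟩],
      ![⟨2, 2⟩, ⟨1, -1⟩, ⟨0, 2⟩, ⟨0, 2⟩],
      ![⟨0, 1⟩, ⟨0, 0⟩, ⟨-1, 2⟩, ⟨1, 1⟩],
      ![⟨2, 2⟩, ⟨0, -1⟩, ⟨0, -1⟩, ⟨1, -1⟩],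
      ![⟨2, 2⟩, ⟨0, 2⟩, ⟨0, 2⟩, ⟨1, 1⟩],
      ![⟨2, 0⟩, ⟨-1, 1⟩, ⟨0, 0⟩, ⟨1, 1⟩]],
  ruOfArray ![![⟨1, 1⟩, ⟨0, 2⟩, ⟨0, 0⟩, ⟨2, 2⟩],
      ![⟨1, 0⟩, ⟨2, 2⟩, ⟨2, 0⟩, ⟨-1, 0⟩],
      ![⟨2, -1⟩, ⟨0, 1⟩, ⟨-1, 0⟩, ⟨2, 1⟩],
      ![⟨-1, 1⟩, ⟨1, 1⟩, ⟨1, 2⟩, ⟨1, 0⟩],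
      ![⟨2, 2⟩, ⟨1, -1⟩, ⟨2, 2⟩, ⟨1, 1⟩],
      ![⟨0, 2⟩, ⟨1, 1⟩, ⟨2, 2⟩, ⟨1, -1⟩],
      ![⟨-1, -1⟩, ⟨0, 2⟩, ⟨1, -1⟩, ⟨0, 0⟩]],
  ruOfArray ![![⟨0, 0⟩, ⟨2, 0⟩, ⟨1, 2⟩, ⟨-1, 0⟩],
      ![⟨-1, -1⟩, ⟨2, 1⟩, ⟨-1, 2⟩, ⟨2, 2⟩],
      ![⟨2, 1⟩, ⟨2, -1⟩, ⟨1, -1⟩, ⟨2, 0⟩],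
      ![⟨-1, -1⟩, ⟨1, -1⟩, ⟨2, 2⟩, ⟨-1, -1⟩],
      ![⟨2, 0⟩, ⟨1, 1⟩, ⟨-1, -1⟩, ⟨2, 2⟩],
      ![⟨2, 2⟩, ⟨-1, -1⟩, ⟨-1, -1⟩, ⟨0, 2⟩],
      ![⟨2, 2⟩, ⟨-1, 1⟩, ⟨0, 0⟩, ⟨0, 2⟩]],
  ruOfArray ![![⟨0, 2⟩, ⟨-1, 0⟩, ⟨2, 2⟩, ⟨-1, 0⟩],
      ![⟨1, -1⟩, ⟨1, 2⟩, ⟨2, 1⟩, ⟨-1, 1⟩],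
      ![⟨0, 0⟩, ⟨2, 0⟩, ⟨1, -1⟩, ⟨2, 2⟩],
      ![⟨0, 2⟩, ⟨-1, 1⟩, ⟨1, 1⟩, ⟨0, 2⟩],
      ![⟨2, 2⟩, ⟨2, 0⟩, ⟨0, 2⟩, ⟨1, -1⟩],
      ![⟨1, 1⟩, ⟨0, 2⟩, ⟨2, 0⟩, ⟨2, 0⟩],
      ![⟨0, 0⟩, ⟨2, 0⟩, ⟨2, 0⟩, ⟨1, 1⟩]],
  ruOfArray ![![⟨-1, 0⟩, ⟨1, 2⟩, ⟨2, 0⟩, ⟨1, 0⟩],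
      ![⟨0, -1⟩, ⟨0, 0⟩, ⟨2, -1⟩, ⟨2, -1⟩],
      ![⟨1, 1⟩, ⟨2, -1⟩, ⟨-1, 2⟩, ⟨2, -1⟩],
      ![⟨0, 0⟩, ⟨1, 2⟩, ⟨2, -1⟩, ⟨1, 0⟩],
      ![⟨2, 1⟩, ⟨0, 0⟩, ⟨1, 0⟩, ⟨2, -1⟩],
      ![⟨-1, 2⟩, ⟨0, 0⟩, ⟨2, 2⟩, ⟨0, 2⟩],
      ![⟨2, -1⟩, ⟨2, 2⟩, ⟨1, 1⟩, ⟨0, 0⟩]]]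

/-- the check vectors -/
def ruB (j : Fin 19) : RuVec := (star piG) ^ (kkv j) • ruY j

/-- the adjoints (up to sign) of the four monomial maps -/
def gmap : Fin 4 → RuVec → RuVec := ![ruRj, ruRk, ruSign, ruShiftInv]

def certC : Fin 4 → Fin 19 → Fin 19 → GaussianInt := ![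
  ![![⟨-1, 3⟩, ⟨-1, 4⟩, ⟨0, 5⟩, ⟨0, 5⟩, ⟨-1, 4⟩, ⟨1, 1⟩, ⟨-1, 5⟩, ⟨-1, 3⟩, ⟨-1, 2⟩, ⟨-2, 1⟩, ⟨-1, 0⟩, ⟨-1, 0⟩, ⟨-1, -1⟩, ⟨-1, -1⟩, ⟨-2, -1⟩, ⟨-1, 0⟩, ⟨-1, -1⟩, ⟨-1, 0⟩, ⟨0, -1⟩],
    ![⟨-1, 4⟩, ⟨-2, 4⟩, ⟨-1, 4⟩, ⟨1, 3⟩, ⟨-1, 5⟩, ⟨-1, 3⟩, ⟨2, 1⟩, ⟨1, 1⟩, ⟨0, 2⟩, ⟨-2, 1⟩, ⟨-1, 0⟩, ⟨0, 0⟩, ⟨-2, -1⟩, ⟨-1, 0⟩, ⟨-2, -1⟩, ⟨-1, 0⟩, ⟨-2, -1⟩, ⟨-1, -1⟩, ⟨0, -1⟩],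
    ![⟨-1, 3⟩, ⟨-2, 4⟩, ⟨0, 5⟩, ⟨0, 3⟩, ⟨-1, 2⟩, ⟨-1, 3⟩, ⟨0, 5⟩, ⟨-1, 5⟩, ⟨2, 3⟩, ⟨-2, 0⟩, ⟨0, 0⟩, ⟨-1, -1⟩, ⟨-1, 0⟩, ⟨0, 0⟩, ⟨-1, -1⟩, ⟨-1, 0⟩, ⟨-1, 0⟩, ⟨-1, -1⟩, ⟨0, 0⟩],
    ![⟨0, 0⟩, ⟨0, 2⟩, ⟨-1, 3⟩, ⟨0, 2⟩, ⟨-1, 2⟩, ⟨1, 2⟩, ⟨-1, 3⟩, ⟨0, 0⟩, ⟨0, 5⟩, ⟨-3, 1⟩, ⟨0, 0⟩, ⟨-2, -1⟩, ⟨-1, -1⟩, ⟨-1, 0⟩, ⟨0, 0⟩, ⟨0, 0⟩, ⟨-1, -1⟩, ⟨-1, -1⟩, ⟨0, -1⟩],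
    ![⟨-2, 4⟩, ⟨-2, 4⟩, ⟨-1, 3⟩, ⟨2, 3⟩, ⟨1, 3⟩, ⟨-1, 2⟩, ⟨-1, 3⟩, ⟨-2, 2⟩, ⟨-1, 4⟩, ⟨-1, 1⟩, ⟨-1, -1⟩, ⟨-1, -1⟩, ⟨-1, -1⟩, ⟨0, 0⟩, ⟨-2, -1⟩, ⟨-1, -1⟩, ⟨-2, -1⟩, ⟨-1, 0⟩, ⟨0, -1⟩],
    ![⟨-2, 4⟩, ⟨0, 0⟩, ⟨-2, 4⟩, ⟨1, 1⟩, ⟨1, 3⟩, ⟨1, 0⟩, ⟨0, 0⟩, ⟨-1, 3⟩, ⟨1, 3⟩, ⟨-3, 1⟩, ⟨-2, -1⟩, ⟨-1, 0⟩, ⟨-1, -1⟩, ⟨0, 0⟩, ⟨-2, -1⟩, ⟨0, 0⟩, ⟨-2, -1⟩, ⟨-2, -1⟩, ⟨0, 0⟩],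
    ![⟨1, 3⟩, ⟨1, 3⟩, ⟨-1, 5⟩, ⟨1, 3⟩, ⟨1, 1⟩, ⟨-1, 3⟩, ⟨1, 0⟩, ⟨-1, 3⟩, ⟨-1, 3⟩, ⟨0, 0⟩, ⟨-2, -1⟩, ⟨-2, -1⟩, ⟨0, 0⟩, ⟨0, 0⟩, ⟨-1, 0⟩, ⟨-1, -1⟩, ⟨-1, 0⟩, ⟨-1, 0⟩, ⟨0, 0⟩],
    ![⟨-1, 3⟩, ⟨1, 3⟩, ⟨1, 3⟩, ⟨-2, 4⟩, ⟨-2, 4⟩, ⟨1, 1⟩, ⟨1, 1⟩, ⟨0, 5⟩, ⟨-1, 3⟩, ⟨0, 0⟩, ⟨-2, -1⟩, ⟨-2, -1⟩, ⟨-2, -1⟩, ⟨-1, -1⟩, ⟨0, 0⟩, ⟨-2, -1⟩, ⟨-2, -1⟩, ⟨-1, 0⟩, ⟨0, -1⟩],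
    ![⟨-2, 2⟩, ⟨-2, 2⟩, ⟨-2, 4⟩, ⟨1, 1⟩, ⟨1, 1⟩, ⟨0, 0⟩, ⟨1, 3⟩, ⟨-1, 5⟩, ⟨0, 3⟩, ⟨0, 0⟩, ⟨-1, 0⟩, ⟨0, 0⟩, ⟨0, 0⟩, ⟨-2, -1⟩, ⟨-1, -1⟩, ⟨-1, -1⟩, ⟨-1, -1⟩, ⟨-1, -1⟩, ⟨0, -1⟩],
    ![⟨-1, 3⟩, ⟨-1, 3⟩, ⟨-1, 5⟩, ⟨-2, 4⟩, ⟨-2, 2⟩, ⟨0, 2⟩, ⟨-1, 5⟩, ⟨0, 2⟩, ⟨0, 0⟩, ⟨-2, 1⟩, ⟨-1, 0⟩, ⟨-1, -1⟩, ⟨0, 0⟩, ⟨-2, -1⟩, ⟨-2, -1⟩, ⟨-1, 0⟩, ⟨-2, -1⟩, ⟨0, 0⟩, ⟨0, -1⟩],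
    ![⟨-2, 4⟩, ⟨-2, 2⟩, ⟨-2, 4⟩, ⟨-2, 4⟩, ⟨-2, 4⟩, ⟨0, 0⟩, ⟨0, 0⟩, ⟨-2, 4⟩, ⟨0, 2⟩, ⟨-3, 1⟩, ⟨-1, 0⟩, ⟨0, 0⟩, ⟨-1, -1⟩, ⟨0, 0⟩, ⟨0, 0⟩, ⟨0, 0⟩, ⟨0, 0⟩, ⟨0, 0⟩, ⟨0, -1⟩],
    ![⟨0, 2⟩, ⟨0, 2⟩, ⟨-2, 4⟩, ⟨-2, 2⟩, ⟨0, 0⟩, ⟨-2, 4⟩, ⟨-2, 2⟩, ⟨-2, 2⟩, ⟨0, 2⟩, ⟨0, 0⟩, ⟨0, 0⟩, ⟨-1, 0⟩, ⟨0, 0⟩, ⟨-1, -1⟩, ⟨-1, -1⟩, ⟨-1, -1⟩, ⟨0, 0⟩, ⟨-1, -1⟩, ⟨0, 0⟩],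
    ![⟨0, 2⟩, ⟨0, 0⟩, ⟨0, 2⟩, ⟨0, 0⟩, ⟨-2, 2⟩, ⟨-2, 2⟩, ⟨-2, 4⟩, ⟨0, 2⟩, ⟨0, 2⟩, ⟨-3, 1⟩, ⟨-1, -1⟩, ⟨-1, -1⟩, ⟨-2, -1⟩, ⟨0, 0⟩, ⟨0, 0⟩, ⟨-1, -1⟩, ⟨0, 0⟩, ⟨0, 0⟩, ⟨0, -1⟩],
    ![⟨-2, 4⟩, ⟨0, 0⟩, ⟨-2, 4⟩, ⟨0, 2⟩, ⟨0, 2⟩, ⟨0, 0⟩, ⟨-2, 4⟩, ⟨0, 0⟩, ⟨-2, 4⟩, ⟨-3, 1⟩, ⟨0, 0⟩, ⟨-1, -1⟩, ⟨0, 0⟩, ⟨-2, -1⟩, ⟨-1, -1⟩, ⟨0, 0⟩, ⟨0, 0⟩, ⟨-1, -1⟩, ⟨0, -1⟩],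
    ![⟨-2, 2⟩, ⟨0, 0⟩, ⟨0, 0⟩, ⟨-2, 2⟩, ⟨-2, 2⟩, ⟨0, 2⟩, ⟨-2, 2⟩, ⟨0, 2⟩, ⟨0, 0⟩, ⟨0, 0⟩, ⟨-1, -1⟩, ⟨0, 0⟩, ⟨0, 0⟩, ⟨-1, -1⟩, ⟨-2, -1⟩, ⟨0, 0⟩, ⟨0, 0⟩, ⟨-1, -1⟩, ⟨0, 0⟩],
    ![⟨-2, 4⟩, ⟨0, 0⟩, ⟨-2, 4⟩, ⟨-2, 2⟩, ⟨0, 0⟩, ⟨0, 2⟩, ⟨0, 0⟩, ⟨0, 0⟩, ⟨0, 2⟩, ⟨-1, 1⟩, ⟨0, 0⟩, ⟨-1, -1⟩, ⟨-1, -1⟩, ⟨-1, -1⟩, ⟨0, 0⟩, ⟨-1, 0⟩, ⟨-1, -1⟩, ⟨-1, -1⟩, ⟨0, -1⟩],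
    ![⟨-2, 4⟩, ⟨0, 0⟩, ⟨0, 2⟩, ⟨-2, 2⟩, ⟨0, 0⟩, ⟨-2, 4⟩, ⟨-2, 2⟩, ⟨0, 0⟩, ⟨-2, 4⟩, ⟨-3, 1⟩, ⟨0, 0⟩, ⟨0, 0⟩, ⟨0, 0⟩, ⟨0, 0⟩, ⟨-1, -1⟩, ⟨-1, -1⟩, ⟨-1, 0⟩, ⟨-1, -1⟩, ⟨0, -1⟩],
    ![⟨0, 0⟩, ⟨-2, 2⟩, ⟨0, 0⟩, ⟨0, 0⟩, ⟨0, 0⟩, ⟨0, 0⟩, ⟨-2, 2⟩, ⟨0, 0⟩, ⟨-2, 4⟩, ⟨-2, 0⟩, ⟨0, 0⟩, ⟨0, 0⟩, ⟨0, 0⟩, ⟨-1, -1⟩, ⟨-1, -1⟩, ⟨0, 0⟩, ⟨-1, -1⟩, ⟨-2, -1⟩, ⟨0, 0⟩],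
    ![⟨0, 0⟩, ⟨-2, 2⟩, ⟨-2, 2⟩, ⟨-2, 2⟩, ⟨0, 0⟩, ⟨0, 0⟩, ⟨0, 0⟩, ⟨0, 0⟩, ⟨-2, 2⟩, ⟨-2, 0⟩, ⟨-1, -1⟩, ⟨0, 0⟩, ⟨0, 0⟩, ⟨-1, -1⟩, ⟨-1, -1⟩, ⟨-1, -1⟩, ⟨-1, -1⟩, ⟨0, 0⟩, ⟨0, -1⟩]],
  ![![⟨0, 5⟩, ⟨-2, 4⟩, ⟨0, 0⟩, ⟨1, 0⟩, ⟨1, 2⟩, ⟨-2, 2⟩, ⟨1, 2⟩, ⟨1, 1⟩, ⟨-1, 4⟩, ⟨-3, 1⟩, ⟨0, 0⟩, ⟨-1, 0⟩, ⟨-1, -1⟩, ⟨-1, 0⟩, ⟨0, 0⟩, ⟨0, 0⟩, ⟨-1, -1⟩, ⟨-2, -1⟩, ⟨0, -1⟩],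
    ![⟨1, 2⟩, ⟨0, 0⟩, ⟨2, 3⟩, ⟨-2, 2⟩, ⟨0, 2⟩, ⟨-1, 4⟩, ⟨-1, 5⟩, ⟨-2, 4⟩, ⟨1, 1⟩, ⟨-3, 2⟩, ⟨-1, 0⟩, ⟨-1, 0⟩, ⟨-1, 0⟩, ⟨-1, -1⟩, ⟨-1, -1⟩, ⟨-2, -1⟩, ⟨-1, 0⟩, ⟨0, 0⟩, ⟨0, 0⟩],
    ![⟨-1, 4⟩, ⟨0, 3⟩, ⟨0, 2⟩, ⟨0, 3⟩, ⟨2, 3⟩, ⟨0, 3⟩, ⟨-1, 4⟩, ⟨-1, 3⟩, ⟨2, 3⟩, ⟨0, 1⟩, ⟨-1, -1⟩, ⟨-1, -1⟩, ⟨-1, -1⟩, ⟨0, 0⟩, ⟨-2, -1⟩, ⟨-1, -1⟩, ⟨-1, 0⟩, ⟨-1, 0⟩, ⟨0, -1⟩],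
    ![⟨-1, 5⟩, ⟨-1, 5⟩, ⟨1, 1⟩, ⟨-1, 2⟩, ⟨0, 0⟩, ⟨0, 3⟩, ⟨1, 0⟩, ⟨1, 3⟩, ⟨-2, 2⟩, ⟨-1, 1⟩, ⟨0, 0⟩, ⟨-1, 0⟩, ⟨-2, -1⟩, ⟨-2, -1⟩, ⟨-1, 0⟩, ⟨-1, -1⟩, ⟨-2, -1⟩, ⟨-1, -1⟩, ⟨0, -1⟩],
    ![⟨1, 3⟩, ⟨-1, 5⟩, ⟨1, 1⟩, ⟨-1, 3⟩, ⟨0, 3⟩, ⟨2, 1⟩, ⟨-1, 2⟩, ⟨-2, 2⟩, ⟨1, 1⟩, ⟨-3, 1⟩, ⟨0, 0⟩, ⟨-1, 0⟩, ⟨-2, -1⟩, ⟨-1, 0⟩, ⟨-1, -1⟩, ⟨-2, -1⟩, ⟨-1, 0⟩, ⟨-1, -1⟩, ⟨0, 0⟩],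
    ![⟨-1, 5⟩, ⟨1, 3⟩, ⟨-1, 5⟩, ⟨0, 0⟩, ⟨-2, 2⟩, ⟨0, 5⟩, ⟨0, 2⟩, ⟨0, 0⟩, ⟨-1, 5⟩, ⟨-3, 1⟩, ⟨-2, -1⟩, ⟨-2, -1⟩, ⟨-1, -1⟩, ⟨-1, -1⟩, ⟨-2, -1⟩, ⟨-1, -1⟩, ⟨-1, -1⟩, ⟨-2, -1⟩, ⟨0, -1⟩],
    ![⟨1, 3⟩, ⟨-1, 5⟩, ⟨1, 3⟩, ⟨-2, 2⟩, ⟨-2, 4⟩, ⟨-1, 5⟩, ⟨1, 2⟩, ⟨-2, 4⟩, ⟨1, 1⟩, ⟨-3, 1⟩, ⟨-1, 0⟩, ⟨-2, -1⟩, ⟨0, 0⟩, ⟨-1, -1⟩, ⟨-2, -1⟩, ⟨-1, -1⟩, ⟨-1, -1⟩, ⟨-1, 0⟩, ⟨0, -1⟩],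
    ![⟨1, 1⟩, ⟨1, 3⟩, ⟨1, 3⟩, ⟨-2, 4⟩, ⟨-2, 2⟩, ⟨0, 0⟩, ⟨1, 1⟩, ⟨0, 5⟩, ⟨1, 3⟩, ⟨-3, 1⟩, ⟨0, 0⟩, ⟨0, 0⟩, ⟨-2, -1⟩, ⟨-1, -1⟩, ⟨0, 0⟩, ⟨-1, -1⟩, ⟨-1, -1⟩, ⟨0, 0⟩, ⟨0, -1⟩],
    ![⟨-1, 3⟩, ⟨-1, 3⟩, ⟨-1, 3⟩, ⟨-2, 4⟩, ⟨0, 0⟩, ⟨1, 1⟩, ⟨1, 1⟩, ⟨1, 3⟩, ⟨2, 3⟩, ⟨-1, 1⟩, ⟨-2, -1⟩, ⟨-1, 0⟩, ⟨-1, -1⟩, ⟨-1, -1⟩, ⟨0, 0⟩, ⟨-2, -1⟩, ⟨-1, -1⟩, ⟨-2, -1⟩, ⟨0, 0⟩],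
    ![⟨-1, 5⟩, ⟨1, 1⟩, ⟨1, 3⟩, ⟨0, 2⟩, ⟨0, 0⟩, ⟨-1, 5⟩, ⟨0, 0⟩, ⟨0, 2⟩, ⟨-2, 2⟩, ⟨-1, 2⟩, ⟨-1, -1⟩, ⟨-2, -1⟩, ⟨-2, -1⟩, ⟨-2, -1⟩, ⟨-1, -1⟩, ⟨-2, -1⟩, ⟨-1, -1⟩, ⟨-2, -1⟩, ⟨0, -1⟩],
    ![⟨0, 2⟩, ⟨0, 0⟩, ⟨0, 2⟩, ⟨-2, 4⟩, ⟨-2, 4⟩, ⟨0, 0⟩, ⟨0, 2⟩, ⟨-2, 4⟩, ⟨-2, 2⟩, ⟨-3, 1⟩, ⟨-2, -1⟩, ⟨-1, -1⟩, ⟨-1, -1⟩, ⟨-1, -1⟩, ⟨-1, -1⟩, ⟨-1, -1⟩, ⟨0, 0⟩, ⟨-1, -1⟩, ⟨0, -1⟩],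
    ![⟨0, 0⟩, ⟨0, 0⟩, ⟨-2, 2⟩, ⟨-2, 2⟩, ⟨0, 0⟩, ⟨0, 2⟩, ⟨-2, 2⟩, ⟨0, 2⟩, ⟨-2, 4⟩, ⟨-2, 0⟩, ⟨0, 0⟩, ⟨-1, 0⟩, ⟨-1, -1⟩, ⟨-1, -1⟩, ⟨0, 0⟩, ⟨-1, -1⟩, ⟨-1, -1⟩, ⟨0, 0⟩, ⟨0, 0⟩],
    ![⟨-2, 4⟩, ⟨-2, 4⟩, ⟨0, 2⟩, ⟨-2, 2⟩, ⟨-2, 2⟩, ⟨0, 2⟩, ⟨0, 2⟩, ⟨0, 2⟩, ⟨-2, 2⟩, ⟨-2, 0⟩, ⟨-1, -1⟩, ⟨0, 0⟩, ⟨-1, 0⟩, ⟨-1, -1⟩, ⟨0, 0⟩, ⟨0, 0⟩, ⟨0, 0⟩, ⟨0, 0⟩, ⟨0, 0⟩],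
    ![⟨-2, 4⟩, ⟨-2, 2⟩, ⟨-2, 4⟩, ⟨0, 2⟩, ⟨-2, 4⟩, ⟨-2, 4⟩, ⟨-2, 2⟩, ⟨0, 0⟩, ⟨0, 0⟩, ⟨-3, 1⟩, ⟨0, 0⟩, ⟨-1, -1⟩, ⟨0, 0⟩, ⟨-1, 0⟩, ⟨0, 0⟩, ⟨0, 0⟩, ⟨0, 0⟩, ⟨-1, -1⟩, ⟨0, -1⟩],
    ![⟨0, 0⟩, ⟨-2, 2⟩, ⟨-2, 2⟩, ⟨-2, 2⟩, ⟨0, 0⟩, ⟨0, 2⟩, ⟨0, 2⟩, ⟨0, 2⟩, ⟨-2, 2⟩, ⟨-2, 0⟩, ⟨-1, -1⟩, ⟨0, 0⟩, ⟨0, 0⟩, ⟨0, 0⟩, ⟨-2, -1⟩, ⟨-1, -1⟩, ⟨-1, -1⟩, ⟨0, 0⟩, ⟨0, 0⟩],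
    ![⟨0, 0⟩, ⟨0, 0⟩, ⟨-2, 2⟩, ⟨0, 0⟩, ⟨0, 0⟩, ⟨0, 0⟩, ⟨0, 2⟩, ⟨0, 0⟩, ⟨0, 2⟩, ⟨-2, 0⟩, ⟨0, 0⟩, ⟨0, 0⟩, ⟨0, 0⟩, ⟨-1, -1⟩, ⟨0, 0⟩, ⟨-1, 0⟩, ⟨-1, -1⟩, ⟨0, 0⟩, ⟨0, 0⟩],
    ![⟨-2, 4⟩, ⟨-2, 2⟩, ⟨0, 2⟩, ⟨-2, 2⟩, ⟨0, 0⟩, ⟨-2, 4⟩, ⟨-2, 2⟩, ⟨0, 2⟩, ⟨-2, 4⟩, ⟨-1, 1⟩, ⟨-1, -1⟩, ⟨0, 0⟩, ⟨0, 0⟩, ⟨-1, -1⟩, ⟨-1, -1⟩, ⟨-1, -1⟩, ⟨-1, 0⟩, ⟨-1, -1⟩, ⟨0, -1⟩],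
    ![⟨-2, 4⟩, ⟨0, 0⟩, ⟨0, 2⟩, ⟨0, 0⟩, ⟨0, 0⟩, ⟨0, 2⟩, ⟨0, 0⟩, ⟨-2, 2⟩, ⟨-2, 4⟩, ⟨-3, 1⟩, ⟨-1, -1⟩, ⟨-1, -1⟩, ⟨-1, -1⟩, ⟨-1, -1⟩, ⟨0, 0⟩, ⟨-1, -1⟩, ⟨0, 0⟩, ⟨-2, -1⟩, ⟨0, -1⟩],
    ![⟨0, 0⟩, ⟨0, 0⟩, ⟨-2, 2⟩, ⟨-2, 2⟩, ⟨0, 0⟩, ⟨0, 0⟩, ⟨-2, 2⟩, ⟨-2, 2⟩, ⟨-2, 2⟩, ⟨0, 0⟩, ⟨0, 0⟩, ⟨-1, -1⟩, ⟨-1, -1⟩, ⟨-1, -1⟩, ⟨0, 0⟩, ⟨-1, -1⟩, ⟨0, 0⟩, ⟨-1, -1⟩, ⟨0, -1⟩]],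
  ![![⟨-1, 4⟩, ⟨0, 2⟩, ⟨-2, 4⟩, ⟨-2, 2⟩, ⟨0, 0⟩, ⟨0, 2⟩, ⟨-2, 2⟩, ⟨-2, 4⟩, ⟨-2, 2⟩, ⟨0, 0⟩, ⟨0, 0⟩, ⟨-2, -1⟩, ⟨-1, -1⟩, ⟨-1, 0⟩, ⟨-1, 0⟩, ⟨-1, -1⟩, ⟨-2, -1⟩, ⟨0, 0⟩, ⟨0, -1⟩],
    ![⟨0, 0⟩, ⟨1, 0⟩, ⟨0, 0⟩, ⟨-2, 4⟩, ⟨-2, 4⟩, ⟨-2, 2⟩, ⟨0, 0⟩, ⟨-2, 4⟩, ⟨0, 2⟩, ⟨-1, 1⟩, ⟨-2, -1⟩, ⟨0, 0⟩, ⟨-1, -1⟩, ⟨-1, 0⟩, ⟨-2, -1⟩, ⟨0, 0⟩, ⟨-1, -1⟩, ⟨-1, 0⟩, ⟨0, 0⟩],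
    ![⟨-2, 2⟩, ⟨-2, 2⟩, ⟨-1, 2⟩, ⟨0, 2⟩, ⟨0, 2⟩, ⟨-2, 2⟩, ⟨0, 2⟩, ⟨-2, 2⟩, ⟨-2, 2⟩, ⟨-3, 1⟩, ⟨-1, 0⟩, ⟨-1, 0⟩, ⟨-1, -1⟩, ⟨-1, -1⟩, ⟨0, 0⟩, ⟨0, 0⟩, ⟨-1, 0⟩, ⟨-1, 0⟩, ⟨0, -1⟩],
    ![⟨0, 2⟩, ⟨-2, 2⟩, ⟨-2, 4⟩, ⟨-1, 2⟩, ⟨0, 2⟩, ⟨-2, 4⟩, ⟨0, 0⟩, ⟨0, 0⟩, ⟨0, 0⟩, ⟨-2, 0⟩, ⟨-2, -1⟩, ⟨-1, 0⟩, ⟨-1, 0⟩, ⟨-1, 0⟩, ⟨-1, 0⟩, ⟨0, 0⟩, ⟨0, 0⟩, ⟨-1, 0⟩, ⟨0, -1⟩],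
    ![⟨-2, 2⟩, ⟨-2, 2⟩, ⟨0, 0⟩, ⟨0, 2⟩, ⟨-1, 2⟩, ⟨-2, 2⟩, ⟨0, 0⟩, ⟨0, 2⟩, ⟨-2, 2⟩, ⟨-3, 1⟩, ⟨-2, -1⟩, ⟨-1, 0⟩, ⟨-2, -1⟩, ⟨-2, -1⟩, ⟨-2, -1⟩, ⟨0, 0⟩, ⟨-1, -1⟩, ⟨-1, 0⟩, ⟨0, 0⟩],
    ![⟨-2, 4⟩, ⟨0, 0⟩, ⟨-2, 4⟩, ⟨-2, 2⟩, ⟨-2, 2⟩, ⟨-1, 4⟩, ⟨-2, 4⟩, ⟨0, 0⟩, ⟨-2, 2⟩, ⟨-1, 1⟩, ⟨0, 0⟩, ⟨0, 0⟩, ⟨0, 0⟩, ⟨-1, -1⟩, ⟨0, 0⟩, ⟨-1, -1⟩, ⟨0, 0⟩, ⟨0, 0⟩, ⟨0, -1⟩],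
    ![⟨0, 0⟩, ⟨0, 0⟩, ⟨0, 0⟩, ⟨0, 0⟩, ⟨0, 0⟩, ⟨0, 0⟩, ⟨-1, 4⟩, ⟨0, 0⟩, ⟨0, 0⟩, ⟨0, 0⟩, ⟨0, 0⟩, ⟨0, 0⟩, ⟨0, 0⟩, ⟨0, 0⟩, ⟨0, 0⟩, ⟨0, 0⟩, ⟨0, 0⟩, ⟨0, 0⟩, ⟨0, 0⟩],
    ![⟨-2, 4⟩, ⟨-2, 2⟩, ⟨0, 2⟩, ⟨-2, 2⟩, ⟨-2, 2⟩, ⟨-2, 4⟩, ⟨0, 0⟩, ⟨1, 0⟩, ⟨0, 0⟩, ⟨-3, 1⟩, ⟨-1, -1⟩, ⟨0, 0⟩, ⟨0, 0⟩, ⟨-1, -1⟩, ⟨-1, -1⟩, ⟨0, 0⟩, ⟨0, 0⟩, ⟨-1, -1⟩, ⟨0, -1⟩],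
    ![⟨-2, 4⟩, ⟨-2, 2⟩, ⟨-2, 4⟩, ⟨0, 0⟩, ⟨-2, 2⟩, ⟨-2, 4⟩, ⟨0, 0⟩, ⟨0, 0⟩, ⟨1, 0⟩, ⟨-3, 1⟩, ⟨0, 0⟩, ⟨-1, -1⟩, ⟨-1, -1⟩, ⟨-1, -1⟩, ⟨0, 0⟩, ⟨0, 0⟩, ⟨0, 0⟩, ⟨-1, -1⟩, ⟨0, -1⟩],
    ![⟨-2, 2⟩, ⟨-2, 2⟩, ⟨-2, 2⟩, ⟨-2, 2⟩, ⟨-2, 2⟩, ⟨-2, 2⟩, ⟨0, 0⟩, ⟨-2, 2⟩, ⟨0, 0⟩, ⟨-3, 2⟩, ⟨-1, -1⟩, ⟨0, 0⟩, ⟨0, 0⟩, ⟨-1, -1⟩, ⟨-1, -1⟩, ⟨0, 0⟩, ⟨0, 0⟩, ⟨-1, -1⟩, ⟨0, 0⟩],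
    ![⟨0, 0⟩, ⟨0, 0⟩, ⟨0, 0⟩, ⟨0, 0⟩, ⟨0, 0⟩, ⟨0, 0⟩, ⟨0, 0⟩, ⟨0, 0⟩, ⟨0, 0⟩, ⟨0, 0⟩, ⟨-1, 0⟩, ⟨0, 0⟩, ⟨0, 0⟩, ⟨0, 0⟩, ⟨0, 0⟩, ⟨0, 0⟩, ⟨0, 0⟩, ⟨0, 0⟩, ⟨0, 0⟩],
    ![⟨0, 0⟩, ⟨0, 0⟩, ⟨0, 0⟩, ⟨0, 0⟩, ⟨0, 0⟩, ⟨0, 0⟩, ⟨0, 0⟩, ⟨0, 0⟩, ⟨0, 0⟩, ⟨0, 0⟩, ⟨0, 0⟩, ⟨-1, 0⟩, ⟨0, 0⟩, ⟨0, 0⟩, ⟨0, 0⟩, ⟨0, 0⟩, ⟨0, 0⟩, ⟨0, 0⟩, ⟨0, 0⟩],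
    ![⟨0, 0⟩, ⟨0, 0⟩, ⟨0, 0⟩, ⟨0, 0⟩, ⟨0, 0⟩, ⟨0, 0⟩, ⟨0, 0⟩, ⟨0, 0⟩, ⟨0, 0⟩, ⟨0, 0⟩, ⟨0, 0⟩, ⟨0, 0⟩, ⟨-1, 0⟩, ⟨0, 0⟩, ⟨0, 0⟩, ⟨0, 0⟩, ⟨0, 0⟩, ⟨0, 0⟩, ⟨0, 0⟩],
    ![⟨0, 0⟩, ⟨0, 0⟩, ⟨0, 0⟩, ⟨0, 0⟩, ⟨0, 0⟩, ⟨0, 0⟩, ⟨0, 0⟩, ⟨0, 0⟩, ⟨0, 0⟩, ⟨0, 0⟩, ⟨0, 0⟩, ⟨0, 0⟩, ⟨0, 0⟩, ⟨-1, 0⟩, ⟨0, 0⟩, ⟨0, 0⟩, ⟨0, 0⟩, ⟨0, 0⟩, ⟨0, 0⟩],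
    ![⟨0, 0⟩, ⟨0, 0⟩, ⟨0, 0⟩, ⟨0, 0⟩, ⟨0, 0⟩, ⟨0, 0⟩, ⟨0, 0⟩, ⟨0, 0⟩, ⟨0, 0⟩, ⟨0, 0⟩, ⟨0, 0⟩, ⟨0, 0⟩, ⟨0, 0⟩, ⟨0, 0⟩, ⟨-1, 0⟩, ⟨0, 0⟩, ⟨0, 0⟩, ⟨0, 0⟩, ⟨0, 0⟩],
    ![⟨0, 0⟩, ⟨0, 0⟩, ⟨0, 0⟩, ⟨0, 0⟩, ⟨0, 0⟩, ⟨0, 0⟩, ⟨0, 0⟩, ⟨0, 0⟩, ⟨0, 0⟩, ⟨0, 0⟩, ⟨0, 0⟩, ⟨0, 0⟩, ⟨0, 0⟩, ⟨0, 0⟩, ⟨0, 0⟩, ⟨-1, 0⟩, ⟨0, 0⟩, ⟨0, 0⟩, ⟨0, 0⟩],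
    ![⟨0, 0⟩, ⟨0, 0⟩, ⟨0, 0⟩, ⟨0, 0⟩, ⟨0, 0⟩, ⟨0, 0⟩, ⟨0, 0⟩, ⟨0, 0⟩, ⟨0, 0⟩, ⟨0, 0⟩, ⟨0, 0⟩, ⟨0, 0⟩, ⟨0, 0⟩, ⟨0, 0⟩, ⟨0, 0⟩, ⟨0, 0⟩, ⟨-1, 0⟩, ⟨0, 0⟩, ⟨0, 0⟩],
    ![⟨0, 0⟩, ⟨0, 0⟩, ⟨0, 0⟩, ⟨0, 0⟩, ⟨0, 0⟩, ⟨0, 0⟩, ⟨0, 0⟩, ⟨0, 0⟩, ⟨0, 0⟩, ⟨0, 0⟩, ⟨0, 0⟩, ⟨0, 0⟩, ⟨0, 0⟩, ⟨0, 0⟩, ⟨0, 0⟩, ⟨0, 0⟩, ⟨0, 0⟩, ⟨-1, 0⟩, ⟨0, 0⟩],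
    ![⟨0, 0⟩, ⟨0, 0⟩, ⟨0, 0⟩, ⟨0, 0⟩, ⟨0, 0⟩, ⟨0, 0⟩, ⟨0, 0⟩, ⟨0, 0⟩, ⟨0, 0⟩, ⟨0, 0⟩, ⟨0, 0⟩, ⟨0, 0⟩, ⟨0, 0⟩, ⟨0, 0⟩, ⟨0, 0⟩, ⟨0, 0⟩, ⟨0, 0⟩, ⟨0, 0⟩, ⟨0, -1⟩]],
  ![![⟨-1, 4⟩, ⟨0, 2⟩, ⟨-1, 2⟩, ⟨1, 2⟩, ⟨0, 0⟩, ⟨2, 1⟩, ⟨-2, 2⟩, ⟨1, 0⟩, ⟨1, 2⟩, ⟨0, 0⟩, ⟨-1, -1⟩, ⟨-2, -1⟩, ⟨-2, -1⟩, ⟨0, 0⟩, ⟨-2, -1⟩, ⟨0, 0⟩, ⟨-1, 0⟩, ⟨-1, 0⟩, ⟨0, 0⟩],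
    ![⟨1, 2⟩, ⟨1, 0⟩, ⟨0, 5⟩, ⟨-1, 2⟩, ⟨0, 0⟩, ⟨-2, 4⟩, ⟨-1, 4⟩, ⟨0, 0⟩, ⟨2, 1⟩, ⟨0, 1⟩, ⟨-1, 0⟩, ⟨-2, -1⟩, ⟨-1, 0⟩, ⟨0, 0⟩, ⟨-1, -1⟩, ⟨0, 0⟩, ⟨-1, 0⟩, ⟨-2, -1⟩, ⟨0, 0⟩],
    ![⟨-2, 2⟩, ⟨-1, 4⟩, ⟨0, 2⟩, ⟨1, 0⟩, ⟨0, 3⟩, ⟨1, 2⟩, ⟨-1, 3⟩, ⟨1, 1⟩, ⟨-1, 4⟩, ⟨0, 0⟩, ⟨0, 0⟩, ⟨0, 0⟩, ⟨-1, -1⟩, ⟨-1, 0⟩, ⟨-1, -1⟩, ⟨-2, -1⟩, ⟨0, 0⟩, ⟨-1, -1⟩, ⟨0, 0⟩],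
    ![⟨0, 5⟩, ⟨-1, 3⟩, ⟨-1, 3⟩, ⟨-1, 3⟩, ⟨-2, 4⟩, ⟨2, 1⟩, ⟨2, 1⟩, ⟨1, 0⟩, ⟨2, 1⟩, ⟨0, 0⟩, ⟨0, 0⟩, ⟨-1, 0⟩, ⟨0, 0⟩, ⟨-2, -1⟩, ⟨0, 0⟩, ⟨-1, -1⟩, ⟨-2, -1⟩, ⟨0, 0⟩, ⟨0, 0⟩],
    ![⟨0, 2⟩, ⟨2, 3⟩, ⟨2, 3⟩, ⟨0, 0⟩, ⟨1, 1⟩, ⟨-2, 2⟩, ⟨-1, 2⟩, ⟨0, 3⟩, ⟨1, 1⟩, ⟨-3, 1⟩, ⟨0, 0⟩, ⟨0, 0⟩, ⟨-2, -1⟩, ⟨0, 0⟩, ⟨-2, -1⟩, ⟨-1, 0⟩, ⟨-1, -1⟩, ⟨-2, -1⟩, ⟨0, -1⟩],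
    ![⟨0, 2⟩, ⟨0, 2⟩, ⟨-1, 5⟩, ⟨1, 0⟩, ⟨1, 0⟩, ⟨2, 1⟩, ⟨-1, 5⟩, ⟨2, 1⟩, ⟨-1, 4⟩, ⟨0, 0⟩, ⟨-1, -1⟩, ⟨-1, 0⟩, ⟨-2, -1⟩, ⟨-2, -1⟩, ⟨-1, -1⟩, ⟨0, 0⟩, ⟨-1, -1⟩, ⟨-1, 0⟩, ⟨0, -1⟩],
    ![⟨-1, 3⟩, ⟨-2, 4⟩, ⟨1, 1⟩, ⟨-2, 4⟩, ⟨-2, 4⟩, ⟨-1, 2⟩, ⟨-1, 2⟩, ⟨1, 0⟩, ⟨1, 1⟩, ⟨0, 0⟩, ⟨-1, -1⟩, ⟨0, 0⟩, ⟨-1, -1⟩, ⟨-1, -1⟩, ⟨0, 0⟩, ⟨-1, 0⟩, ⟨0, 0⟩, ⟨0, 0⟩, ⟨0, -1⟩],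
    ![⟨0, 0⟩, ⟨-1, 3⟩, ⟨-1, 3⟩, ⟨1, 1⟩, ⟨-2, 2⟩, ⟨1, 1⟩, ⟨0, 5⟩, ⟨-2, 2⟩, ⟨-1, 4⟩, ⟨0, 0⟩, ⟨0, 0⟩, ⟨-1, 0⟩, ⟨0, 0⟩, ⟨-1, 0⟩, ⟨-1, -1⟩, ⟨0, 0⟩, ⟨-1, -1⟩, ⟨-1, 0⟩, ⟨0, -1⟩],
    ![⟨-2, 2⟩, ⟨-1, 5⟩, ⟨-2, 4⟩, ⟨-1, 3⟩, ⟨-2, 4⟩, ⟨0, 2⟩, ⟨0, 2⟩, ⟨2, 1⟩, ⟨2, 1⟩, ⟨-1, 2⟩, ⟨0, 0⟩, ⟨-1, 0⟩, ⟨-2, -1⟩, ⟨0, 0⟩, ⟨-1, 0⟩, ⟨-1, 0⟩, ⟨-1, 0⟩, ⟨0, 0⟩, ⟨0, -1⟩],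
    ![⟨-2, 4⟩, ⟨-1, 3⟩, ⟨-2, 4⟩, ⟨-1, 3⟩, ⟨-2, 2⟩, ⟨-2, 2⟩, ⟨0, 0⟩, ⟨-2, 4⟩, ⟨0, 0⟩, ⟨-3, 2⟩, ⟨-1, 0⟩, ⟨-2, -1⟩, ⟨-1, -1⟩, ⟨0, 0⟩, ⟨-1, 0⟩, ⟨-1, -1⟩, ⟨-1, 0⟩, ⟨-1, -1⟩, ⟨0, 0⟩],
    ![⟨0, 2⟩, ⟨-2, 4⟩, ⟨-2, 4⟩, ⟨0, 0⟩, ⟨0, 0⟩, ⟨-2, 2⟩, ⟨-2, 4⟩, ⟨-2, 2⟩, ⟨-2, 4⟩, ⟨-1, 1⟩, ⟨-1, 0⟩, ⟨-1, -1⟩, ⟨-1, -1⟩, ⟨-1, -1⟩, ⟨-2, -1⟩, ⟨-1, -1⟩, ⟨0, 0⟩, ⟨0, 0⟩, ⟨0, 0⟩],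
    ![⟨0, 0⟩, ⟨-2, 2⟩, ⟨0, 2⟩, ⟨0, 0⟩, ⟨0, 2⟩, ⟨0, 0⟩, ⟨-2, 4⟩, ⟨0, 2⟩, ⟨0, 0⟩, ⟨0, 0⟩, ⟨-2, -1⟩, ⟨0, 0⟩, ⟨-1, 0⟩, ⟨-1, 0⟩, ⟨-1, 0⟩, ⟨-1, -1⟩, ⟨-2, -1⟩, ⟨-2, -1⟩, ⟨0, 0⟩],
    ![⟨0, 2⟩, ⟨-2, 2⟩, ⟨-2, 4⟩, ⟨0, 0⟩, ⟨-2, 4⟩, ⟨0, 0⟩, ⟨0, 2⟩, ⟨-2, 4⟩, ⟨-2, 4⟩, ⟨-1, 1⟩, ⟨-1, -1⟩, ⟨-1, -1⟩, ⟨0, 0⟩, ⟨0, 0⟩, ⟨-2, -1⟩, ⟨-2, -1⟩, ⟨-1, -1⟩, ⟨-1, -1⟩, ⟨0, 0⟩],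
    ![⟨0, 2⟩, ⟨-2, 2⟩, ⟨-2, 4⟩, ⟨-2, 2⟩, ⟨-2, 4⟩, ⟨0, 0⟩, ⟨0, 0⟩, ⟨-2, 4⟩, ⟨-2, 2⟩, ⟨-3, 1⟩, ⟨-1, -1⟩, ⟨-1, 0⟩, ⟨-2, -1⟩, ⟨0, 0⟩, ⟨0, 0⟩, ⟨-1, -1⟩, ⟨-1, -1⟩, ⟨-1, 0⟩, ⟨0, -1⟩],
    ![⟨0, 0⟩, ⟨0, 0⟩, ⟨-2, 4⟩, ⟨-2, 4⟩, ⟨-2, 4⟩, ⟨-2, 4⟩, ⟨0, 2⟩, ⟨0, 0⟩, ⟨0, 0⟩, ⟨-1, 1⟩, ⟨-1, 0⟩, ⟨-1, 0⟩, ⟨0, 0⟩, ⟨-1, 0⟩, ⟨-1, -1⟩, ⟨0, 0⟩, ⟨-1, -1⟩, ⟨-1, -1⟩, ⟨0, 0⟩],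
    ![⟨-2, 4⟩, ⟨0, 2⟩, ⟨0, 2⟩, ⟨0, 0⟩, ⟨0, 0⟩, ⟨-2, 2⟩, ⟨0, 0⟩, ⟨0, 2⟩, ⟨-2, 4⟩, ⟨-3, 1⟩, ⟨0, 0⟩, ⟨-1, 0⟩, ⟨-2, -1⟩, ⟨0, 0⟩, ⟨-1, -1⟩, ⟨0, 0⟩, ⟨0, 0⟩, ⟨-1, -1⟩, ⟨0, -1⟩],
    ![⟨0, 2⟩, ⟨0, 0⟩, ⟨0, 0⟩, ⟨0, 2⟩, ⟨0, 2⟩, ⟨-2, 4⟩, ⟨0, 0⟩, ⟨-2, 2⟩, ⟨0, 0⟩, ⟨0, 0⟩, ⟨-2, -1⟩, ⟨-1, 0⟩, ⟨0, 0⟩, ⟨-1, -1⟩, ⟨-1, -1⟩, ⟨-1, 0⟩, ⟨-2, -1⟩, ⟨-2, -1⟩, ⟨0, 0⟩],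
    ![⟨-2, 2⟩, ⟨0, 0⟩, ⟨0, 2⟩, ⟨0, 2⟩, ⟨-2, 4⟩, ⟨-2, 2⟩, ⟨-2, 4⟩, ⟨0, 2⟩, ⟨-2, 4⟩, ⟨-3, 1⟩, ⟨-2, -1⟩, ⟨-1, 0⟩, ⟨0, 0⟩, ⟨-1, -1⟩, ⟨-1, -1⟩, ⟨0, 0⟩, ⟨-2, -1⟩, ⟨-1, 0⟩, ⟨0, 0⟩],
    ![⟨-2, 2⟩, ⟨0, 0⟩, ⟨-2, 2⟩, ⟨0, 0⟩, ⟨-2, 2⟩, ⟨0, 0⟩, ⟨-2, 2⟩, ⟨-2, 2⟩, ⟨-2, 2⟩, ⟨0, 0⟩, ⟨-1, -1⟩, ⟨-1, -1⟩, ⟨-1, -1⟩, ⟨0, 0⟩, ⟨0, 0⟩, ⟨0, 0⟩, ⟨0, 0⟩, ⟨-1, -1⟩, ⟨0, -1⟩]]]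

def certZ : Fin 4 → Fin 19 → RuVec := ![
  ![ruOfArray ![![⟨8, -3⟩, ⟨4, -9⟩, ⟨11, 0⟩, ⟨8, 2⟩],
      ![⟨6, 2⟩, ⟨9, 0⟩, ⟨4, -11⟩, ⟨6, -5⟩],
      ![⟨6, -6⟩, ⟨7, -7⟩, ⟨4, 3⟩, ⟨7, -7⟩],
      ![⟨1, 3⟩, ⟨5, 1⟩, ⟨8, -2⟩, ⟨2, -4⟩],
      ![⟨10, -5⟩, ⟨2, -5⟩, ⟨3, -9⟩, ⟨2, -5⟩],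
      ![⟨19, 0⟩, ⟨3, 2⟩, ⟨10, -2⟩, ⟨5, -4⟩],
      ![⟨5, -6⟩, ⟨6, -1⟩, ⟨2, -3⟩, ⟨9, 1⟩]],
    ruOfArray ![![⟨9, -1⟩, ⟨3, -7⟩, ⟨11, -3⟩, ⟨9, -2⟩],
      ![⟨7, -3⟩, ⟨9, -4⟩, ⟨4, -7⟩, ⟨5, -6⟩],
      ![⟨6, -6⟩, ⟨5, -12⟩, ⟨6, 1⟩, ⟨9, -8⟩],
      ![⟨3, 5⟩, ⟨4, 0⟩, ⟨7, -3⟩, ⟨-1, -2⟩],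
      ![⟨11, -6⟩, ⟨3, -7⟩, ⟨0, -5⟩, ⟨3, -6⟩],
      ![⟨20, -1⟩, ⟨4, 1⟩, ⟨8, -3⟩, ⟨5, -1⟩],
      ![⟨5, -6⟩, ⟨6, 0⟩, ⟨2, -2⟩, ⟨12, 1⟩]],
    ruOfArray ![![⟨6, -2⟩, ⟨0, -9⟩, ⟨10, -1⟩, ⟨4, 3⟩],
      ![⟨5, -3⟩, ⟨4, -1⟩, ⟨4, -8⟩, ⟨4, -5⟩],
      ![⟨1, -6⟩, ⟨8, -4⟩, ⟨3, 0⟩, ⟨11, -5⟩],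
      ![⟨4, 4⟩, ⟨2, -1⟩, ⟨4, -3⟩, ⟨0, -2⟩],
      ![⟨10, -3⟩, ⟨0, -6⟩, ⟨1, -6⟩, ⟨-1, -6⟩],
      ![⟨16, 1⟩, ⟨-1, 3⟩, ⟨9, -3⟩, ⟨4, -3⟩],
      ![⟨3, -4⟩, ⟨4, -3⟩, ⟨2, 0⟩, ⟨9, -2⟩]],
    ruOfArray ![![⟨7, -2⟩, ⟨2, -6⟩, ⟨9, -1⟩, ⟨3, 1⟩],
      ![⟨1, -1⟩, ⟨8, 1⟩, ⟨8, -4⟩, ⟨6, 0⟩],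
      ![⟨2, -6⟩, ⟨6, -7⟩, ⟨0, 0⟩, ⟨7, -5⟩],
      ![⟨3, 3⟩, ⟨7, 0⟩, ⟨3, -4⟩, ⟨-1, -2⟩],
      ![⟨9, -3⟩, ⟨3, -6⟩, ⟨3, -3⟩, ⟨2, -2⟩],
      ![⟨16, 0⟩, ⟨3, 2⟩, ⟨6, -2⟩, ⟨4, -3⟩],
      ![⟨6, -4⟩, ⟨6, -3⟩, ⟨3, -1⟩, ⟨8, 1⟩]],
    ruOfArray ![![⟨9, -2⟩, ⟨5, -7⟩, ⟨11, 0⟩, ⟨7, 1⟩],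
      ![⟨6, 0⟩, ⟨8, -2⟩, ⟨7, -7⟩, ⟨7, -3⟩],
      ![⟨9, -8⟩, ⟨3, -6⟩, ⟨3, 4⟩, ⟨11, -7⟩],
      ![⟨3, 4⟩, ⟨6, -1⟩, ⟨7, -1⟩, ⟨2, -3⟩],
      ![⟨12, -4⟩, ⟨2, -6⟩, ⟨2, -2⟩, ⟨2, -5⟩],
      ![⟨19, -1⟩, ⟨4, 0⟩, ⟨9, 1⟩, ⟨6, -2⟩],
      ![⟨7, -7⟩, ⟨7, 0⟩, ⟨3, -1⟩, ⟨11, 0⟩]],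
    ruOfArray ![![⟨8, -5⟩, ⟨0, -7⟩, ⟨10, -1⟩, ⟨5, 0⟩],
      ![⟨6, 0⟩, ⟨9, -1⟩, ⟨10, -7⟩, ⟨8, 0⟩],
      ![⟨8, -6⟩, ⟨4, -7⟩, ⟨3, 1⟩, ⟨9, -6⟩],
      ![⟨3, 1⟩, ⟨2, -4⟩, ⟨6, 1⟩, ⟨-1, -1⟩],
      ![⟨10, -6⟩, ⟨3, -5⟩, ⟨1, 1⟩, ⟨1, -4⟩],
      ![⟨16, -7⟩, ⟨4, -1⟩, ⟨3, -1⟩, ⟨4, -5⟩],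
      ![⟨5, -9⟩, ⟨4, -1⟩, ⟨2, -3⟩, ⟨12, -3⟩]],
    ruOfArray ![![⟨8, -3⟩, ⟨0, -10⟩, ⟨6, -1⟩, ⟨6, 1⟩],
      ![⟨3, 0⟩, ⟨5, 0⟩, ⟨6, -3⟩, ⟨3, 1⟩],
      ![⟨4, -9⟩, ⟨3, -4⟩, ⟨1, 2⟩, ⟨7, -8⟩],
      ![⟨3, -2⟩, ⟨4, -2⟩, ⟨4, 1⟩, ⟨2, -3⟩],
      ![⟨7, -4⟩, ⟨1, -4⟩, ⟨4, 2⟩, ⟨-3, -1⟩],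
      ![⟨12, -5⟩, ⟨5, -1⟩, ⟨2, -2⟩, ⟨4, -6⟩],
      ![⟨1, -7⟩, ⟨4, -1⟩, ⟨2, -3⟩, ⟨10, -4⟩]],
    ruOfArray ![![⟨7, -5⟩, ⟨8, -12⟩, ⟨12, -2⟩, ⟨14, 4⟩],
      ![⟨6, 3⟩, ⟨10, -2⟩, ⟨7, -4⟩, ⟨8, -1⟩],
      ![⟨6, -9⟩, ⟨7, -5⟩, ⟨3, 2⟩, ⟨6, -13⟩],
      ![⟨3, 1⟩, ⟨4, -1⟩, ⟨10, -4⟩, ⟨-1, -3⟩],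
      ![⟨10, -5⟩, ⟨4, -5⟩, ⟨7, -3⟩, ⟨4, -4⟩],
      ![⟨16, -2⟩, ⟨4, 2⟩, ⟨8, -4⟩, ⟨7, -6⟩],
      ![⟨5, -8⟩, ⟨8, -2⟩, ⟨3, -4⟩, ⟨14, -1⟩]],
    ruOfArray ![![⟨3, -2⟩, ⟨3, -5⟩, ⟨10, -3⟩, ⟨6, 1⟩],
      ![⟨8, 0⟩, ⟨7, 1⟩, ⟨4, -8⟩, ⟨5, -4⟩],
      ![⟨8, -7⟩, ⟨9, -5⟩, ⟨3, 5⟩, ⟨8, -3⟩],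
      ![⟨0, 4⟩, ⟨5, -1⟩, ⟨6, -1⟩, ⟨2, -4⟩],
      ![⟨11, -2⟩, ⟨3, -6⟩, ⟨0, -4⟩, ⟨2, -6⟩],
      ![⟨9, 3⟩, ⟨4, 2⟩, ⟨8, -3⟩, ⟨7, -3⟩],
      ![⟨1, -7⟩, ⟨6, 1⟩, ⟨2, -3⟩, ⟨10, 1⟩]],
    ruOfArray ![![⟨5, 0⟩, ⟨5, -10⟩, ⟨9, 0⟩, ⟨6, 3⟩],
      ![⟨2, 1⟩, ⟨7, 1⟩, ⟨4, -8⟩, ⟨5, -7⟩],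
      ![⟨8, -8⟩, ⟨8, -9⟩, ⟨4, 3⟩, ⟨7, -7⟩],
      ![⟨-1, 3⟩, ⟨4, 2⟩, ⟨6, -3⟩, ⟨1, -2⟩],
      ![⟨8, -6⟩, ⟨2, -4⟩, ⟨0, -7⟩, ⟨1, -5⟩],
      ![⟨18, 2⟩, ⟨1, 6⟩, ⟨6, -3⟩, ⟨7, -3⟩],
      ![⟨4, -7⟩, ⟨6, 2⟩, ⟨1, -2⟩, ⟨8, 1⟩]],
    ruOfArray ![![⟨4, -5⟩, ⟨4, -6⟩, ⟨6, -1⟩, ⟨7, 3⟩],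
      ![⟨4, 2⟩, ⟨2, 0⟩, ⟨3, -7⟩, ⟨2, -2⟩],
      ![⟨2, -3⟩, ⟨5, -1⟩, ⟨2, 2⟩, ⟨5, -3⟩],
      ![⟨0, 1⟩, ⟨5, -2⟩, ⟨2, -2⟩, ⟨-2, -4⟩],
      ![⟨5, 0⟩, ⟨2, -3⟩, ⟨2, -4⟩, ⟨-1, -4⟩],
      ![⟨9, 4⟩, ⟨1, -2⟩, ⟨6, -1⟩, ⟨2, -1⟩],
      ![⟨1, -5⟩, ⟨5, -2⟩, ⟨2, -1⟩, ⟨6, 1⟩]],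
    ruOfArray ![![⟨7, 0⟩, ⟨3, -3⟩, ⟨9, 1⟩, ⟨1, 1⟩],
      ![⟨4, -1⟩, ⟨4, 2⟩, ⟨5, -5⟩, ⟨4, -1⟩],
      ![⟨3, -5⟩, ⟨7, -3⟩, ⟨1, 2⟩, ⟨8, -1⟩],
      ![⟨1, 4⟩, ⟨5, 1⟩, ⟨6, 2⟩, ⟨5, -3⟩],
      ![⟨9, 1⟩, ⟨2, -5⟩, ⟨6, -3⟩, ⟨0, -3⟩],
      ![⟨9, 5⟩, ⟨3, 3⟩, ⟨7, -1⟩, ⟨7, -2⟩],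
      ![⟨2, -2⟩, ⟨2, 0⟩, ⟨2, -4⟩, ⟨5, 1⟩]],
    ruOfArray ![![⟨7, -1⟩, ⟨6, -4⟩, ⟨9, -1⟩, ⟨8, 3⟩],
      ![⟨5, 0⟩, ⟨6, 0⟩, ⟨8, -7⟩, ⟨6, -3⟩],
      ![⟨4, -4⟩, ⟨7, -2⟩, ⟨2, 2⟩, ⟨7, -5⟩],
      ![⟨2, 2⟩, ⟨4, 2⟩, ⟨3, -4⟩, ⟨-2, 0⟩],
      ![⟨8, -1⟩, ⟨3, -3⟩, ⟨7, -4⟩, ⟨0, -1⟩],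
      ![⟨13, 2⟩, ⟨0, 2⟩, ⟨8, -1⟩, ⟨0, -2⟩],
      ![⟨3, -3⟩, ⟨5, 0⟩, ⟨3, -1⟩, ⟨5, 0⟩]],
    ruOfArray ![![⟨5, -1⟩, ⟨1, -6⟩, ⟨9, -1⟩, ⟨4, 0⟩],
      ![⟨5, 1⟩, ⟨6, 4⟩, ⟨8, -8⟩, ⟨3, -2⟩],
      ![⟨8, -5⟩, ⟨9, -5⟩, ⟨-2, 3⟩, ⟨5, -1⟩],
      ![⟨1, 6⟩, ⟨8, 4⟩, ⟨1, -4⟩, ⟨4, -1⟩],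
      ![⟨9, 0⟩, ⟨4, -6⟩, ⟨1, -4⟩, ⟨0, -4⟩],
      ![⟨15, 4⟩, ⟨6, 5⟩, ⟨7, -3⟩, ⟨5, -2⟩],
      ![⟨3, -5⟩, ⟨6, -2⟩, ⟨3, -2⟩, ⟨7, 2⟩]],
    ruOfArray ![![⟨2, 2⟩, ⟨2, -2⟩, ⟨6, -1⟩, ⟨3, 2⟩],
      ![⟨5, 0⟩, ⟨4, 3⟩, ⟨3, -4⟩, ⟨3, -2⟩],
      ![⟨7, -3⟩, ⟨5, -2⟩, ⟨4, 2⟩, ⟨4, -2⟩],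
      ![⟨1, 2⟩, ⟨0, 3⟩, ⟨4, 0⟩, ⟨2, -1⟩],
      ![⟨6, -2⟩, ⟨3, -1⟩, ⟨1, -2⟩, ⟨-1, -3⟩],
      ![⟨8, 2⟩, ⟨4, 5⟩, ⟨5, -1⟩, ⟨5, -4⟩],
      ![⟨1, -3⟩, ⟨2, 1⟩, ⟨2, -3⟩, ⟨5, 0⟩]],
    ruOfArray ![![⟨5, 0⟩, ⟨8, -5⟩, ⟨10, -2⟩, ⟨3, 1⟩],
      ![⟨1, -1⟩, ⟨7, 1⟩, ⟨4, -2⟩, ⟨7, 1⟩],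
      ![⟨3, -5⟩, ⟨5, -6⟩, ⟨2, 0⟩, ⟨6, -6⟩],
      ![⟨3, 4⟩, ⟨4, 1⟩, ⟨6, -3⟩, ⟨-1, -1⟩],
      ![⟨8, -3⟩, ⟨5, -3⟩, ⟨4, -2⟩, ⟨4, -2⟩],
      ![⟨13, 3⟩, ⟨1, 4⟩, ⟨5, -5⟩, ⟨4, 2⟩],
      ![⟨5, -2⟩, ⟨5, -2⟩, ⟨2, -2⟩, ⟨7, 3⟩]],
    ruOfArray ![![⟨5, -1⟩, ⟨1, -2⟩, ⟨9, -3⟩, ⟨2, -1⟩],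
      ![⟨4, -5⟩, ⟨4, -1⟩, ⟨7, -7⟩, ⟨3, -5⟩],
      ![⟨7, -8⟩, ⟨4, -7⟩, ⟨-1, 1⟩, ⟨10, 0⟩],
      ![⟨0, 7⟩, ⟨7, 2⟩, ⟨5, -4⟩, ⟨3, -2⟩],
      ![⟨12, 1⟩, ⟨4, -7⟩, ⟨5, -4⟩, ⟨2, -5⟩],
      ![⟨14, 4⟩, ⟨3, 4⟩, ⟨9, 2⟩, ⟨4, -1⟩],
      ![⟨4, -2⟩, ⟨5, 2⟩, ⟨3, -2⟩, ⟨3, 0⟩]],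
    ruOfArray ![![⟨3, -1⟩, ⟨-1, 0⟩, ⟨7, -1⟩, ⟨-1, 1⟩],
      ![⟨4, 0⟩, ⟨7, 0⟩, ⟨6, -3⟩, ⟨3, 1⟩],
      ![⟨7, -4⟩, ⟨5, -5⟩, ⟨0, -1⟩, ⟨6, 2⟩],
      ![⟨0, 5⟩, ⟨4, 4⟩, ⟨5, -2⟩, ⟨3, -1⟩],
      ![⟨10, -1⟩, ⟨5, -5⟩, ⟨1, -3⟩, ⟨0, -4⟩],
      ![⟨9, 2⟩, ⟨5, 3⟩, ⟨4, -1⟩, ⟨5, -1⟩],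
      ![⟨6, -2⟩, ⟨3, -1⟩, ⟨2, -3⟩, ⟨5, 3⟩]],
    ruOfArray ![![⟨5, 0⟩, ⟨4, -3⟩, ⟨3, -2⟩, ⟨5, 1⟩],
      ![⟨2, 1⟩, ⟨5, 1⟩, ⟨3, -4⟩, ⟨4, -1⟩],
      ![⟨9, -6⟩, ⟨6, -6⟩, ⟨-1, 4⟩, ⟨3, 0⟩],
      ![⟨1, 2⟩, ⟨4, 2⟩, ⟨4, -1⟩, ⟨4, -3⟩],
      ![⟨9, -2⟩, ⟨5, -4⟩, ⟨1, -3⟩, ⟨3, -4⟩],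
      ![⟨9, 4⟩, ⟨5, 3⟩, ⟨6, -1⟩, ⟨6, 1⟩],
      ![⟨7, -6⟩, ⟨6, 2⟩, ⟨2, -2⟩, ⟨6, 4⟩]]],
  ![ruOfArray ![![⟨5, -2⟩, ⟨0, -3⟩, ⟨12, -6⟩, ⟨6, 0⟩],
      ![⟨4, -5⟩, ⟨8, -2⟩, ⟨4, -5⟩, ⟨6, -2⟩],
      ![⟨3, -7⟩, ⟨6, -9⟩, ⟨1, 1⟩, ⟨7, -4⟩],
      ![⟨2, 6⟩, ⟨8, 2⟩, ⟨4, -5⟩, ⟨1, -2⟩],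
      ![⟨10, -1⟩, ⟨4, -7⟩, ⟨2, -2⟩, ⟨1, -3⟩],
      ![⟨13, 0⟩, ⟨4, 1⟩, ⟨6, -3⟩, ⟨3, 0⟩],
      ![⟨5, -2⟩, ⟨3, -4⟩, ⟨3, -2⟩, ⟨5, 0⟩]],
    ruOfArray ![![⟨6, -5⟩, ⟨1, -7⟩, ⟨11, -2⟩, ⟨9, 2⟩],
      ![⟨6, -1⟩, ⟨6, -1⟩, ⟨4, -11⟩, ⟨7, -6⟩],
      ![⟨5, -9⟩, ⟨7, -6⟩, ⟨2, 3⟩, ⟨7, -5⟩],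
      ![⟨0, 4⟩, ⟨4, 0⟩, ⟨7, -3⟩, ⟨1, -3⟩],
      ![⟨9, -2⟩, ⟨2, -6⟩, ⟨5, -9⟩, ⟨2, -4⟩],
      ![⟨14, -3⟩, ⟨-2, 4⟩, ⟨9, -2⟩, ⟨4, -4⟩],
      ![⟨2, -4⟩, ⟨2, 1⟩, ⟨0, -3⟩, ⟨6, -2⟩]],
    ruOfArray ![![⟨6, -1⟩, ⟨5, -5⟩, ⟨9, -2⟩, ⟨7, 1⟩],
      ![⟨6, -3⟩, ⟨5, -1⟩, ⟨5, -9⟩, ⟨6, -4⟩],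
      ![⟨6, -8⟩, ⟨2, -5⟩, ⟨4, 5⟩, ⟨9, -8⟩],
      ![⟨5, 3⟩, ⟨3, -2⟩, ⟨6, 0⟩, ⟨2, -3⟩],
      ![⟨11, -4⟩, ⟨-1, -5⟩, ⟨4, -2⟩, ⟨1, -4⟩],
      ![⟨16, -3⟩, ⟨2, 0⟩, ⟨11, 0⟩, ⟨6, -4⟩],
      ![⟨5, -6⟩, ⟨5, -1⟩, ⟨3, -2⟩, ⟨9, -3⟩]],
    ruOfArray ![![⟨6, -4⟩, ⟨5, -6⟩, ⟨14, -7⟩, ⟨10, 2⟩],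
      ![⟨6, -4⟩, ⟨11, -1⟩, ⟨2, -3⟩, ⟨7, -6⟩],
      ![⟨5, -10⟩, ⟨4, -8⟩, ⟨5, 0⟩, ⟨7, -6⟩],
      ![⟨1, 7⟩, ⟨6, 3⟩, ⟨11, -5⟩, ⟨0, -3⟩],
      ![⟨12, -1⟩, ⟨5, -7⟩, ⟨2, -3⟩, ⟨5, -6⟩],
      ![⟨13, 1⟩, ⟨3, 6⟩, ⟨9, -5⟩, ⟨9, -1⟩],
      ![⟨6, -6⟩, ⟨5, -1⟩, ⟨3, -3⟩, ⟨8, 1⟩]],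
    ruOfArray ![![⟨8, -4⟩, ⟨2, -5⟩, ⟨8, -2⟩, ⟨9, 2⟩],
      ![⟨5, -1⟩, ⟨10, -1⟩, ⟨5, -9⟩, ⟨4, -3⟩],
      ![⟨1, -7⟩, ⟨3, -3⟩, ⟨3, 0⟩, ⟨7, -2⟩],
      ![⟨4, 6⟩, ⟨4, 1⟩, ⟨8, -1⟩, ⟨0, -1⟩],
      ![⟨11, -1⟩, ⟨1, -7⟩, ⟨6, -6⟩, ⟨4, -6⟩],
      ![⟨14, -2⟩, ⟨2, 3⟩, ⟨11, -2⟩, ⟨6, -5⟩],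
      ![⟨4, -4⟩, ⟨4, -2⟩, ⟨2, -3⟩, ⟨7, -1⟩]],
    ruOfArray ![![⟨12, -2⟩, ⟨3, -7⟩, ⟨12, -2⟩, ⟨9, 1⟩],
      ![⟨5, -2⟩, ⟨11, 1⟩, ⟨12, -7⟩, ⟨7, -2⟩],
      ![⟨10, -10⟩, ⟨7, -11⟩, ⟨3, 3⟩, ⟨12, -10⟩],
      ![⟨4, 4⟩, ⟨9, 2⟩, ⟨6, -1⟩, ⟨3, -3⟩],
      ![⟨14, -5⟩, ⟨5, -8⟩, ⟨6, 0⟩, ⟨1, -2⟩],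
      ![⟨24, -2⟩, ⟨8, 2⟩, ⟨7, -2⟩, ⟨7, -4⟩],
      ![⟨6, -8⟩, ⟨7, -1⟩, ⟨4, -5⟩, ⟨12, 0⟩]],
    ruOfArray ![![⟨9, -2⟩, ⟨2, -6⟩, ⟨12, -1⟩, ⟨9, 4⟩],
      ![⟨4, -1⟩, ⟨7, 2⟩, ⟨5, -10⟩, ⟨5, -4⟩],
      ![⟨8, -10⟩, ⟨8, -10⟩, ⟨3, 3⟩, ⟨11, -9⟩],
      ![⟨1, 2⟩, ⟨8, 1⟩, ⟨6, 0⟩, ⟨2, -4⟩],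
      ![⟨12, -3⟩, ⟨1, -6⟩, ⟨4, -5⟩, ⟨-1, -3⟩],
      ![⟨17, 0⟩, ⟨2, 4⟩, ⟨8, -2⟩, ⟨8, -2⟩],
      ![⟨3, -7⟩, ⟨4, 0⟩, ⟨3, -3⟩, ⟨9, -2⟩]],
    ruOfArray ![![⟨2, -5⟩, ⟨5, -6⟩, ⟨9, -2⟩, ⟨9, 4⟩],
      ![⟨5, 0⟩, ⟨7, -1⟩, ⟨0, -5⟩, ⟨5, -3⟩],
      ![⟨2, -4⟩, ⟨7, -5⟩, ⟨3, 1⟩, ⟨8, -3⟩],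
      ![⟨1, 4⟩, ⟨4, -1⟩, ⟨8, -5⟩, ⟨-3, -5⟩],
      ![⟨11, -2⟩, ⟨3, -4⟩, ⟨2, -8⟩, ⟨4, -5⟩],
      ![⟨11, 4⟩, ⟨-2, 2⟩, ⟨11, -5⟩, ⟨5, -2⟩],
      ![⟨4, -6⟩, ⟨4, -1⟩, ⟨2, -2⟩, ⟨8, 2⟩]],
    ruOfArray ![![⟨4, -3⟩, ⟨4, -7⟩, ⟨8, -4⟩, ⟨7, 4⟩],
      ![⟨2, -2⟩, ⟨10, 0⟩, ⟨4, -5⟩, ⟨7, 1⟩],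
      ![⟨2, -9⟩, ⟨6, -6⟩, ⟨3, 3⟩, ⟨8, -7⟩],
      ![⟨4, 2⟩, ⟨1, -1⟩, ⟨7, -1⟩, ⟨0, -3⟩],
      ![⟨11, -6⟩, ⟨3, -6⟩, ⟨6, -2⟩, ⟨3, -3⟩],
      ![⟨11, -2⟩, ⟨4, 0⟩, ⟨7, -6⟩, ⟨5, -6⟩],
      ![⟨3, -6⟩, ⟨5, -3⟩, ⟨2, -5⟩, ⟨9, -1⟩]],
    ruOfArray ![![⟨11, -3⟩, ⟨6, -8⟩, ⟨16, -4⟩, ⟨12, 1⟩],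
      ![⟨6, -2⟩, ⟨13, 0⟩, ⟨7, -5⟩, ⟨11, -2⟩],
      ![⟨9, -10⟩, ⟨5, -10⟩, ⟨4, 3⟩, ⟨11, -10⟩],
      ![⟨5, 5⟩, ⟨9, 3⟩, ⟨10, -4⟩, ⟨3, -2⟩],
      ![⟨15, -3⟩, ⟨6, -8⟩, ⟨6, -2⟩, ⟨4, -5⟩],
      ![⟨20, -1⟩, ⟨6, 7⟩, ⟨7, -6⟩, ⟨8, -3⟩],
      ![⟨6, -6⟩, ⟨6, -1⟩, ⟨3, -5⟩, ⟨11, 0⟩]],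
    ruOfArray ![![⟨8, -2⟩, ⟨3, -7⟩, ⟨10, 1⟩, ⟨12, 3⟩],
      ![⟨8, 5⟩, ⟨8, 3⟩, ⟨8, -8⟩, ⟨4, 0⟩],
      ![⟨9, -5⟩, ⟨9, -4⟩, ⟨3, 5⟩, ⟨9, -4⟩],
      ![⟨2, 3⟩, ⟨6, 3⟩, ⟨7, -2⟩, ⟨2, -2⟩],
      ![⟨11, 1⟩, ⟨6, -5⟩, ⟨7, -4⟩, ⟨1, -5⟩],
      ![⟨14, 1⟩, ⟨5, 6⟩, ⟨11, -2⟩, ⟨6, -7⟩],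
      ![⟨4, -8⟩, ⟨7, 1⟩, ⟨4, -4⟩, ⟨11, 1⟩]],
    ruOfArray ![![⟨5, -3⟩, ⟨4, -5⟩, ⟨9, 0⟩, ⟨4, 0⟩],
      ![⟨4, 1⟩, ⟨6, 0⟩, ⟨4, -2⟩, ⟨8, 0⟩],
      ![⟨3, -7⟩, ⟨6, -1⟩, ⟨1, 0⟩, ⟨5, -1⟩],
      ![⟨-1, 4⟩, ⟨4, -1⟩, ⟨8, -3⟩, ⟨1, -4⟩],
      ![⟨8, 1⟩, ⟨5, -5⟩, ⟨5, -5⟩, ⟨5, -1⟩],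
      ![⟨10, 3⟩, ⟨1, 3⟩, ⟨7, 0⟩, ⟨5, -2⟩],
      ![⟨5, -1⟩, ⟨3, 2⟩, ⟨1, -2⟩, ⟨5, 2⟩]],
    ruOfArray ![![⟨3, -3⟩, ⟨1, -7⟩, ⟨6, -3⟩, ⟨7, 3⟩],
      ![⟨4, 1⟩, ⟨1, 1⟩, ⟨2, -1⟩, ⟨2, -5⟩],
      ![⟨5, -2⟩, ⟨5, -2⟩, ⟨1, 1⟩, ⟨2, -1⟩],
      ![⟨1, 3⟩, ⟨3, 3⟩, ⟨1, -2⟩, ⟨0, -2⟩],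
      ![⟨4, 1⟩, ⟨2, -2⟩, ⟨1, -3⟩, ⟨-1, -3⟩],
      ![⟨9, 3⟩, ⟨2, 2⟩, ⟨4, -1⟩, ⟨3, -1⟩],
      ![⟨3, -3⟩, ⟨0, -1⟩, ⟨2, 0⟩, ⟨5, 1⟩]],
    ruOfArray ![![⟨7, 2⟩, ⟨1, -5⟩, ⟨8, -1⟩, ⟨4, 2⟩],
      ![⟨0, -2⟩, ⟨3, 2⟩, ⟨6, -4⟩, ⟨4, -3⟩],
      ![⟨2, -3⟩, ⟨7, -7⟩, ⟨1, 1⟩, ⟨8, -7⟩],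
      ![⟨1, 3⟩, ⟨6, 4⟩, ⟨-1, -3⟩, ⟨2, 1⟩],
      ![⟨5, -2⟩, ⟨2, -4⟩, ⟨2, -2⟩, ⟨-2, -3⟩],
      ![⟨15, 5⟩, ⟨1, 4⟩, ⟨3, -2⟩, ⟨4, 0⟩],
      ![⟨0, -2⟩, ⟨2, -2⟩, ⟨3, -1⟩, ⟨4, 0⟩]],
    ruOfArray ![![⟨5, -1⟩, ⟨3, -3⟩, ⟨4, 0⟩, ⟨3, 0⟩],
      ![⟨4, -2⟩, ⟨5, 1⟩, ⟨4, -3⟩, ⟨2, -3⟩],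
      ![⟨7, -5⟩, ⟨3, -5⟩, ⟨3, 3⟩, ⟨7, -1⟩],
      ![⟨0, 3⟩, ⟨2, 0⟩, ⟨5, 1⟩, ⟨2, -4⟩],
      ![⟨10, -3⟩, ⟨2, -3⟩, ⟨2, -2⟩, ⟨0, -3⟩],
      ![⟨11, 3⟩, ⟨3, 2⟩, ⟨6, 2⟩, ⟨5, -3⟩],
      ![⟨5, -4⟩, ⟨3, 5⟩, ⟨2, -1⟩, ⟨6, 2⟩]],
    ruOfArray ![![⟨2, -2⟩, ⟨1, -2⟩, ⟨4, 0⟩, ⟨2, 0⟩],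
      ![⟨1, 0⟩, ⟨4, -1⟩, ⟨3, -2⟩, ⟨4, -1⟩],
      ![⟨2, -3⟩, ⟨5, -2⟩, ⟨0, 0⟩, ⟨3, -1⟩],
      ![⟨0, 3⟩, ⟨3, 0⟩, ⟨2, -2⟩, ⟨0, -3⟩],
      ![⟨5, -2⟩, ⟨2, -2⟩, ⟨1, -3⟩, ⟨2, -2⟩],
      ![⟨8, 2⟩, ⟨1, 1⟩, ⟨2, -2⟩, ⟨2, -1⟩],
      ![⟨3, -2⟩, ⟨2, 1⟩, ⟨-1, -2⟩, ⟨4, 3⟩]],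
    ruOfArray ![![⟨3, 0⟩, ⟨3, -5⟩, ⟨10, -5⟩, ⟨5, 0⟩],
      ![⟨5, -2⟩, ⟨4, 1⟩, ⟨5, -6⟩, ⟨6, -6⟩],
      ![⟨9, -9⟩, ⟨5, -6⟩, ⟨2, 6⟩, ⟨8, -4⟩],
      ![⟨1, 7⟩, ⟨6, 2⟩, ⟨5, -4⟩, ⟨4, -4⟩],
      ![⟨11, -1⟩, ⟨3, -6⟩, ⟨5, -2⟩, ⟨1, -6⟩],
      ![⟨12, 3⟩, ⟨3, 3⟩, ⟨9, 2⟩, ⟨7, -1⟩],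
      ![⟨4, -5⟩, ⟨4, 1⟩, ⟨4, -2⟩, ⟨7, 1⟩]],
    ruOfArray ![![⟨9, -4⟩, ⟨4, -4⟩, ⟨11, -3⟩, ⟨8, 4⟩],
      ![⟨5, 0⟩, ⟨8, 1⟩, ⟨9, -6⟩, ⟨7, 1⟩],
      ![⟨8, -8⟩, ⟨4, -3⟩, ⟨0, 3⟩, ⟨9, -5⟩],
      ![⟨4, 5⟩, ⟨8, 3⟩, ⟨5, -3⟩, ⟨3, -3⟩],
      ![⟨11, 1⟩, ⟨6, -6⟩, ⟨7, 1⟩, ⟨1, -5⟩],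
      ![⟨13, 0⟩, ⟨5, 4⟩, ⟨8, -3⟩, ⟨6, -3⟩],
      ![⟨5, -6⟩, ⟨6, -2⟩, ⟨3, -4⟩, ⟨8, -1⟩]],
    ruOfArray ![![⟨7, -1⟩, ⟨8, -3⟩, ⟨8, 2⟩, ⟨5, 1⟩],
      ![⟨4, 0⟩, ⟨8, 3⟩, ⟨5, -5⟩, ⟨5, 1⟩],
      ![⟨4, -3⟩, ⟨7, 1⟩, ⟨2, 2⟩, ⟨4, -2⟩],
      ![⟨3, 2⟩, ⟨5, 3⟩, ⟨7, -2⟩, ⟨4, -3⟩],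
      ![⟨9, 1⟩, ⟨6, -3⟩, ⟨9, -3⟩, ⟨4, -4⟩],
      ![⟨9, 5⟩, ⟨1, 5⟩, ⟨10, 0⟩, ⟨6, -3⟩],
      ![⟨4, -3⟩, ⟨7, -1⟩, ⟨3, -4⟩, ⟨6, 1⟩]]],
  ![ruOfArray ![![⟨7, -3⟩, ⟨8, -9⟩, ⟨11, 0⟩, ⟨6, 2⟩],
      ![⟨4, 0⟩, ⟨8, 0⟩, ⟨5, -4⟩, ⟨9, -4⟩],
      ![⟨5, -10⟩, ⟨4, -2⟩, ⟨3, 1⟩, ⟨7, -6⟩],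
      ![⟨1, 3⟩, ⟨6, -2⟩, ⟨10, -2⟩, ⟨1, -3⟩],
      ![⟨9, -1⟩, ⟨3, -4⟩, ⟨4, -2⟩, ⟨5, -4⟩],
      ![⟨13, 3⟩, ⟨1, 3⟩, ⟨7, 0⟩, ⟨8, -2⟩],
      ![⟨5, -5⟩, ⟨6, 1⟩, ⟨2, -1⟩, ⟨8, 1⟩]],
    ruOfArray ![![⟨6, -1⟩, ⟨3, -5⟩, ⟨9, 1⟩, ⟨8, 2⟩],
      ![⟨8, 1⟩, ⟨6, -2⟩, ⟨3, -4⟩, ⟨7, -1⟩],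
      ![⟨8, -5⟩, ⟨3, -7⟩, ⟨5, 3⟩, ⟨9, -3⟩],
      ![⟨2, 1⟩, ⟨3, -2⟩, ⟨7, 0⟩, ⟨0, -4⟩],
      ![⟨9, -3⟩, ⟨3, -4⟩, ⟨2, -4⟩, ⟨0, -3⟩],
      ![⟨11, -2⟩, ⟨2, 0⟩, ⟨4, -1⟩, ⟨5, -5⟩],
      ![⟨4, -6⟩, ⟨1, 1⟩, ⟨0, -3⟩, ⟨11, 0⟩]],
    ruOfArray ![![⟨7, -4⟩, ⟨2, -6⟩, ⟨12, -3⟩, ⟨7, 4⟩],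
      ![⟨4, 2⟩, ⟨6, -1⟩, ⟨5, -7⟩, ⟨8, -3⟩],
      ![⟨5, -6⟩, ⟨5, -6⟩, ⟨1, 3⟩, ⟨5, -4⟩],
      ![⟨-1, 3⟩, ⟨6, 4⟩, ⟨5, -5⟩, ⟨2, -3⟩],
      ![⟨6, -1⟩, ⟨5, -5⟩, ⟨4, -5⟩, ⟨1, -4⟩],
      ![⟨10, 0⟩, ⟨1, 2⟩, ⟨6, -1⟩, ⟨3, -1⟩],
      ![⟨4, -5⟩, ⟨4, -3⟩, ⟨2, -2⟩, ⟨6, 0⟩]],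
    ruOfArray ![![⟨8, -1⟩, ⟨2, -7⟩, ⟨7, -4⟩, ⟨5, 0⟩],
      ![⟨2, -3⟩, ⟨3, -1⟩, ⟨4, -6⟩, ⟨5, -4⟩],
      ![⟨5, -5⟩, ⟨4, -9⟩, ⟨4, 3⟩, ⟨4, -6⟩],
      ![⟨2, -2⟩, ⟨3, 3⟩, ⟨2, -2⟩, ⟨2, -2⟩],
      ![⟨5, -4⟩, ⟨2, -4⟩, ⟨5, -2⟩, ⟨-2, -3⟩],
      ![⟨10, -1⟩, ⟨4, -1⟩, ⟨2, -3⟩, ⟨3, -3⟩],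
      ![⟨1, -6⟩, ⟨3, -1⟩, ⟨2, -2⟩, ⟨7, -3⟩]],
    ruOfArray ![![⟨9, -4⟩, ⟨2, -7⟩, ⟨12, -3⟩, ⟨10, 1⟩],
      ![⟨9, 1⟩, ⟨10, -1⟩, ⟨5, -4⟩, ⟨9, -3⟩],
      ![⟨10, -7⟩, ⟨5, -8⟩, ⟨5, 2⟩, ⟨7, -3⟩],
      ![⟨1, 2⟩, ⟨4, 4⟩, ⟨7, -2⟩, ⟨1, -3⟩],
      ![⟨9, -3⟩, ⟨6, -6⟩, ⟨2, -4⟩, ⟨0, -4⟩],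
      ![⟨13, -3⟩, ⟨5, 3⟩, ⟨4, -3⟩, ⟨5, -4⟩],
      ![⟨6, -7⟩, ⟨2, -1⟩, ⟨1, -3⟩, ⟨10, -1⟩]],
    ruOfArray ![![⟨3, -1⟩, ⟨5, -4⟩, ⟨6, -3⟩, ⟨5, 1⟩],
      ![⟨2, -1⟩, ⟨3, 0⟩, ⟨3, -5⟩, ⟨3, -5⟩],
      ![⟨4, -4⟩, ⟨6, -4⟩, ⟨-1, 3⟩, ⟨5, -4⟩],
      ![⟨-1, 5⟩, ⟨7, 2⟩, ⟨2, -4⟩, ⟨3, -3⟩],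
      ![⟨5, 0⟩, ⟨3, -4⟩, ⟨4, -5⟩, ⟨1, -1⟩],
      ![⟨12, 6⟩, ⟨2, 3⟩, ⟨6, 0⟩, ⟨3, 0⟩],
      ![⟨1, -1⟩, ⟨3, 2⟩, ⟨1, -2⟩, ⟨2, 4⟩]],
    ruOfArray ![![⟨0, 1⟩, ⟨0, -1⟩, ⟨1, 0⟩, ⟨0, 1⟩],
      ![⟨0, 0⟩, ⟨0, 0⟩, ⟨1, -2⟩, ⟨1, -2⟩],
      ![⟨0, 0⟩, ⟨2, 1⟩, ⟨0, 0⟩, ⟨0, 0⟩],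
      ![⟨0, 1⟩, ⟨0, 1⟩, ⟨0, -1⟩, ⟨1, 0⟩],
      ![⟨0, 0⟩, ⟨0, 0⟩, ⟨1, -2⟩, ⟨0, 0⟩],
      ![⟨2, 0⟩, ⟨-1, 1⟩, ⟨2, 0⟩, ⟨-1, -1⟩],
      ![⟨1, 1⟩, ⟨0, 0⟩, ⟨0, 0⟩, ⟨-1, 1⟩]],
    ruOfArray ![![⟨3, 2⟩, ⟨1, -3⟩, ⟨7, -4⟩, ⟨5, 2⟩],
      ![⟨2, -2⟩, ⟨3, 2⟩, ⟨4, -5⟩, ⟨3, -4⟩],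
      ![⟨7, -3⟩, ⟨5, -9⟩, ⟨2, 4⟩, ⟨7, -3⟩],
      ![⟨0, 3⟩, ⟨3, 5⟩, ⟨1, -2⟩, ⟨2, -1⟩],
      ![⟨7, -1⟩, ⟨3, -4⟩, ⟨2, -2⟩, ⟨-2, -4⟩],
      ![⟨12, 4⟩, ⟨3, 4⟩, ⟨4, -2⟩, ⟨5, 0⟩],
      ![⟨2, -4⟩, ⟨2, 0⟩, ⟨3, -2⟩, ⟨4, 0⟩]],
    ruOfArray ![![⟨7, 1⟩, ⟨4, -3⟩, ⟨9, -1⟩, ⟨4, 4⟩],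
      ![⟨1, -1⟩, ⟨5, 2⟩, ⟨5, -4⟩, ⟨5, -2⟩],
      ![⟨3, -3⟩, ⟨6, -6⟩, ⟨2, 1⟩, ⟨7, -6⟩],
      ![⟨2, 3⟩, ⟨4, 3⟩, ⟨1, -2⟩, ⟨-1, 0⟩],
      ![⟨5, -1⟩, ⟨4, -4⟩, ⟨3, -1⟩, ⟨0, -2⟩],
      ![⟨12, 4⟩, ⟨0, 3⟩, ⟨5, -4⟩, ⟨4, 2⟩],
      ![⟨1, -3⟩, ⟨3, -3⟩, ⟨3, -1⟩, ⟨5, 1⟩]],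
    ruOfArray ![![⟨4, 0⟩, ⟨2, -3⟩, ⟨6, 0⟩, ⟨4, 4⟩],
      ![⟨3, 1⟩, ⟨4, 2⟩, ⟨4, -6⟩, ⟨3, -1⟩],
      ![⟨6, -3⟩, ⟨6, -6⟩, ⟨1, 3⟩, ⟨9, 0⟩],
      ![⟨1, 2⟩, ⟨3, 2⟩, ⟨1, 1⟩, ⟨2, -1⟩],
      ![⟨7, -1⟩, ⟨3, -4⟩, ⟨1, -3⟩, ⟨-3, -4⟩],
      ![⟨8, 2⟩, ⟨3, 3⟩, ⟨3, -2⟩, ⟨5, -1⟩],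
      ![⟨1, -5⟩, ⟨1, 0⟩, ⟨2, -2⟩, ⟨6, 2⟩]],
    ruOfArray ![![⟨0, 0⟩, ⟨0, 0⟩, ⟨0, 0⟩, ⟨0, 0⟩],
      ![⟨1, 1⟩, ⟨0, 0⟩, ⟨2, -1⟩, ⟨1, 0⟩],
      ![⟨2, -2⟩, ⟨0, -1⟩, ⟨2, 1⟩, ⟨-1, -1⟩],
      ![⟨0, 0⟩, ⟨0, 0⟩, ⟨0, 0⟩, ⟨0, 0⟩],
      ![⟨-1, -1⟩, ⟨1, 0⟩, ⟨2, 1⟩, ⟨-1, 1⟩],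
      ![⟨0, 0⟩, ⟨0, 0⟩, ⟨0, 0⟩, ⟨0, 0⟩],
      ![⟨0, 0⟩, ⟨0, 0⟩, ⟨0, 0⟩, ⟨0, 0⟩]],
    ruOfArray ![![⟨0, 0⟩, ⟨0, 0⟩, ⟨0, 0⟩, ⟨0, 0⟩],
      ![⟨0, 1⟩, ⟨2, 1⟩, ⟨2, -1⟩, ⟨2, 1⟩],
      ![⟨-1, -2⟩, ⟨1, 0⟩, ⟨-1, 0⟩, ⟨-1, -2⟩],
      ![⟨0, 0⟩, ⟨0, 0⟩, ⟨0, 0⟩, ⟨0, 0⟩],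
      ![⟨0, 0⟩, ⟨0, 0⟩, ⟨2, 1⟩, ⟨0, 1⟩],
      ![⟨0, 0⟩, ⟨0, 0⟩, ⟨0, 0⟩, ⟨0, 0⟩],
      ![⟨0, 0⟩, ⟨0, 0⟩, ⟨0, 0⟩, ⟨0, 0⟩]],
    ruOfArray ![![⟨0, 0⟩, ⟨0, 0⟩, ⟨0, 0⟩, ⟨0, 0⟩],
      ![⟨2, -1⟩, ⟨1, -2⟩, ⟨0, 0⟩, ⟨2, -2⟩],
      ![⟨0, 1⟩, ⟨0, 1⟩, ⟨2, -2⟩, ⟨0, 0⟩],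
      ![⟨0, 0⟩, ⟨0, 0⟩, ⟨0, 0⟩, ⟨0, 0⟩],
      ![⟨1, 0⟩, ⟨1, -1⟩, ⟨1, -2⟩, ⟨2, -2⟩],
      ![⟨0, 0⟩, ⟨0, 0⟩, ⟨0, 0⟩, ⟨0, 0⟩],
      ![⟨0, 0⟩, ⟨0, 0⟩, ⟨0, 0⟩, ⟨0, 0⟩]],
    ruOfArray ![![⟨0, 0⟩, ⟨0, 0⟩, ⟨0, 0⟩, ⟨0, 0⟩],
      ![⟨2, 0⟩, ⟨2, 0⟩, ⟨0, 0⟩, ⟨1, -1⟩],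
      ![⟨1, -2⟩, ⟨1, -2⟩, ⟨1, 1⟩, ⟨-1, 1⟩],
      ![⟨0, 0⟩, ⟨0, 0⟩, ⟨0, 0⟩, ⟨0, 0⟩],
      ![⟨0, 0⟩, ⟨1, -2⟩, ⟨-1, -1⟩, ⟨0, -1⟩],
      ![⟨0, 0⟩, ⟨0, 0⟩, ⟨0, 0⟩, ⟨0, 0⟩],
      ![⟨0, 0⟩, ⟨0, 0⟩, ⟨0, 0⟩, ⟨0, 0⟩]],
    ruOfArray ![![⟨0, 0⟩, ⟨0, 0⟩, ⟨0, 0⟩, ⟨0, 0⟩],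
      ![⟨2, -2⟩, ⟨1, 0⟩, ⟨-1, -2⟩, ⟨-1, -1⟩],
      ![⟨2, -2⟩, ⟨-1, -1⟩, ⟨2, 0⟩, ⟨2, 0⟩],
      ![⟨0, 0⟩, ⟨0, 0⟩, ⟨0, 0⟩, ⟨0, 0⟩],
      ![⟨2, -2⟩, ⟨-1, 0⟩, ⟨-1, 0⟩, ⟨-1, -1⟩],
      ![⟨0, 0⟩, ⟨0, 0⟩, ⟨0, 0⟩, ⟨0, 0⟩],
      ![⟨0, 0⟩, ⟨0, 0⟩, ⟨0, 0⟩, ⟨0, 0⟩]],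
    ruOfArray ![![⟨0, 0⟩, ⟨0, 0⟩, ⟨0, 0⟩, ⟨0, 0⟩],
      ![⟨0, -1⟩, ⟨2, -2⟩, ⟨0, -2⟩, ⟨0, 1⟩],
      ![⟨-1, -2⟩, ⟨1, 0⟩, ⟨0, 1⟩, ⟨1, -2⟩],
      ![⟨0, 0⟩, ⟨0, 0⟩, ⟨0, 0⟩, ⟨0, 0⟩],
      ![⟨2, -2⟩, ⟨-1, -1⟩, ⟨2, -2⟩, ⟨1, -1⟩],
      ![⟨0, 0⟩, ⟨0, 0⟩, ⟨0, 0⟩, ⟨0, 0⟩],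
      ![⟨0, 0⟩, ⟨0, 0⟩, ⟨0, 0⟩, ⟨0, 0⟩]],
    ruOfArray ![![⟨0, 0⟩, ⟨0, 0⟩, ⟨0, 0⟩, ⟨0, 0⟩],
      ![⟨-1, 1⟩, ⟨1, -2⟩, ⟨2, 1⟩, ⟨2, -2⟩],
      ![⟨1, -2⟩, ⟨-1, -2⟩, ⟨-1, -1⟩, ⟨0, -2⟩],
      ![⟨0, 0⟩, ⟨0, 0⟩, ⟨0, 0⟩, ⟨0, 0⟩],
      ![⟨0, -2⟩, ⟨1, -1⟩, ⟨-1, 1⟩, ⟨2, -2⟩],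
      ![⟨0, 0⟩, ⟨0, 0⟩, ⟨0, 0⟩, ⟨0, 0⟩],
      ![⟨0, 0⟩, ⟨0, 0⟩, ⟨0, 0⟩, ⟨0, 0⟩]],
    ruOfArray ![![⟨0, 0⟩, ⟨0, 0⟩, ⟨0, 0⟩, ⟨0, 0⟩],
      ![⟨-1, -1⟩, ⟨2, -1⟩, ⟨1, -2⟩, ⟨1, 1⟩],
      ![⟨0, 0⟩, ⟨0, -2⟩, ⟨-1, -1⟩, ⟨2, -2⟩],
      ![⟨0, 0⟩, ⟨0, 0⟩, ⟨0, 0⟩, ⟨0, 0⟩],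
      ![⟨2, -2⟩, ⟨0, -2⟩, ⟨2, 0⟩, ⟨-1, -1⟩],
      ![⟨0, 0⟩, ⟨0, 0⟩, ⟨0, 0⟩, ⟨0, 0⟩],
      ![⟨0, 0⟩, ⟨0, 0⟩, ⟨0, 0⟩, ⟨0, 0⟩]],
    ruOfArray ![![⟨-1, 0⟩, ⟨1, 2⟩, ⟨2, 0⟩, ⟨1, 0⟩],
      ![⟨-1, 0⟩, ⟨0, 0⟩, ⟨-1, -2⟩, ⟨-1, -2⟩],
      ![⟨1, -1⟩, ⟨-1, -2⟩, ⟨2, 1⟩, ⟨-1, -2⟩],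
      ![⟨0, 0⟩, ⟨1, 2⟩, ⟨2, -1⟩, ⟨1, 0⟩],
      ![⟨1, -2⟩, ⟨0, 0⟩, ⟨0, -1⟩, ⟨-1, -2⟩],
      ![⟨-1, 2⟩, ⟨0, 0⟩, ⟨2, 2⟩, ⟨0, 2⟩],
      ![⟨2, -1⟩, ⟨2, 2⟩, ⟨1, 1⟩, ⟨0, 0⟩]]],
  ![ruOfArray ![![⟨7, -1⟩, ⟨3, -8⟩, ⟨5, -1⟩, ⟨4, 0⟩],
      ![⟨3, -1⟩, ⟨6, 0⟩, ⟨7, -3⟩, ⟨6, -3⟩],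
      ![⟨3, -5⟩, ⟨0, -1⟩, ⟨4, 0⟩, ⟨4, -6⟩],
      ![⟨6, 0⟩, ⟨-1, 0⟩, ⟨4, 0⟩, ⟨0, 1⟩],
      ![⟨6, -5⟩, ⟨0, -3⟩, ⟨3, 1⟩, ⟨1, -3⟩],
      ![⟨13, -5⟩, ⟨4, 2⟩, ⟨4, -1⟩, ⟨4, -5⟩],
      ![⟨6, -6⟩, ⟨3, -2⟩, ⟨2, -1⟩, ⟨7, -3⟩]],
    ruOfArray ![![⟨7, 2⟩, ⟨0, -8⟩, ⟨9, 1⟩, ⟨1, 1⟩],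
      ![⟨1, -3⟩, ⟨4, 0⟩, ⟨6, -6⟩, ⟨7, -3⟩],
      ![⟨2, -5⟩, ⟨4, -7⟩, ⟨2, -1⟩, ⟨7, -7⟩],
      ![⟨4, 0⟩, ⟨0, 1⟩, ⟨4, 0⟩, ⟨3, 2⟩],
      ![⟨6, -4⟩, ⟨1, -5⟩, ⟨5, -1⟩, ⟨0, -2⟩],
      ![⟨14, -4⟩, ⟨0, 3⟩, ⟨3, -2⟩, ⟨3, -4⟩],
      ![⟨3, -3⟩, ⟨2, -3⟩, ⟨2, -2⟩, ⟨7, -3⟩]],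
    ruOfArray ![![⟨6, -2⟩, ⟨2, -1⟩, ⟨6, -2⟩, ⟨7, -2⟩],
      ![⟨9, -2⟩, ⟨8, -2⟩, ⟨4, -6⟩, ⟨1, -2⟩],
      ![⟨2, -5⟩, ⟨4, -3⟩, ⟨3, 2⟩, ⟨5, -3⟩],
      ![⟨3, 7⟩, ⟨4, 0⟩, ⟨4, 0⟩, ⟨2, -2⟩],
      ![⟨9, -1⟩, ⟨1, -7⟩, ⟨3, -3⟩, ⟨2, -2⟩],
      ![⟨13, 1⟩, ⟨6, 0⟩, ⟨9, 0⟩, ⟨3, -4⟩],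
      ![⟨1, 1⟩, ⟨5, -1⟩, ⟨1, -3⟩, ⟨7, 1⟩]],
    ruOfArray ![![⟨2, 0⟩, ⟨2, -7⟩, ⟨4, -3⟩, ⟨6, 3⟩],
      ![⟨0, 1⟩, ⟨7, 0⟩, ⟨3, -1⟩, ⟨1, -3⟩],
      ![⟨1, -6⟩, ⟨4, -5⟩, ⟨-1, 0⟩, ⟨1, -7⟩],
      ![⟨0, 2⟩, ⟨3, -2⟩, ⟨2, 0⟩, ⟨-2, -1⟩],
      ![⟨3, -4⟩, ⟨1, -4⟩, ⟨0, -1⟩, ⟨4, -1⟩],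
      ![⟨11, -1⟩, ⟨4, 2⟩, ⟨2, -3⟩, ⟨6, -1⟩],
      ![⟨1, -4⟩, ⟨1, 1⟩, ⟨1, -2⟩, ⟨7, 2⟩]],
    ruOfArray ![![⟨7, -3⟩, ⟨3, -2⟩, ⟨13, -1⟩, ⟨5, 0⟩],
      ![⟨6, -6⟩, ⟨8, -3⟩, ⟨2, -9⟩, ⟨8, -3⟩],
      ![⟨5, -3⟩, ⟨6, -9⟩, ⟨6, 0⟩, ⟨11, -5⟩],
      ![⟨3, 5⟩, ⟨3, 1⟩, ⟨11, -3⟩, ⟨1, -2⟩],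
      ![⟨13, -4⟩, ⟨2, -5⟩, ⟨3, -6⟩, ⟨2, -6⟩],
      ![⟨16, 0⟩, ⟨-2, 1⟩, ⟨11, -4⟩, ⟨4, -2⟩],
      ![⟨5, -2⟩, ⟨4, -2⟩, ⟨2, -3⟩, ⟨7, -2⟩]],
    ruOfArray ![![⟨5, -3⟩, ⟨4, -9⟩, ⟨9, -5⟩, ⟨6, -1⟩],
      ![⟨6, 1⟩, ⟨8, -1⟩, ⟨6, -5⟩, ⟨8, -6⟩],
      ![⟨7, -4⟩, ⟨7, -7⟩, ⟨4, 3⟩, ⟨2, -6⟩],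
      ![⟨4, 2⟩, ⟨3, 0⟩, ⟨5, -3⟩, ⟨2, -2⟩],
      ![⟨8, -5⟩, ⟨4, -5⟩, ⟨2, -4⟩, ⟨4, -4⟩],
      ![⟨15, -2⟩, ⟨5, 2⟩, ⟨6, -3⟩, ⟨6, -4⟩],
      ![⟨7, -5⟩, ⟨5, -1⟩, ⟨2, -3⟩, ⟨10, 2⟩]],
    ruOfArray ![![⟨1, 2⟩, ⟨6, -5⟩, ⟨5, -2⟩, ⟨6, 3⟩],
      ![⟨3, 0⟩, ⟨3, -1⟩, ⟨1, -3⟩, ⟨3, -3⟩],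
      ![⟨2, -2⟩, ⟨4, -4⟩, ⟨4, 5⟩, ⟨2, -6⟩],
      ![⟨1, 2⟩, ⟨0, 3⟩, ⟨3, -2⟩, ⟨0, -2⟩],
      ![⟨3, -2⟩, ⟨1, -2⟩, ⟨5, -4⟩, ⟨1, -2⟩],
      ![⟨9, 3⟩, ⟨1, -1⟩, ⟨8, -1⟩, ⟨4, -1⟩],
      ![⟨2, -1⟩, ⟨3, -2⟩, ⟨2, -1⟩, ⟨5, 1⟩]],
    ruOfArray ![![⟨5, -2⟩, ⟨1, -5⟩, ⟨7, -1⟩, ⟨3, 1⟩],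
      ![⟨4, 2⟩, ⟨6, -1⟩, ⟨5, -6⟩, ⟨3, -4⟩],
      ![⟨4, -3⟩, ⟨6, -5⟩, ⟨1, 2⟩, ⟨6, -4⟩],
      ![⟨2, 2⟩, ⟨7, -1⟩, ⟨2, -2⟩, ⟨3, -3⟩],
      ![⟨8, -3⟩, ⟨1, -5⟩, ⟨0, -5⟩, ⟨1, -4⟩],
      ![⟨12, 1⟩, ⟨5, 1⟩, ⟨5, 0⟩, ⟨5, -2⟩],
      ![⟨4, -5⟩, ⟨4, -1⟩, ⟨2, -1⟩, ⟨8, 3⟩]],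
    ruOfArray ![![⟨5, -2⟩, ⟨6, -5⟩, ⟨6, -2⟩, ⟨6, 0⟩],
      ![⟨3, -2⟩, ⟨5, -4⟩, ⟨1, -7⟩, ⟨4, -6⟩],
      ![⟨-2, -3⟩, ⟨3, -6⟩, ⟨4, 1⟩, ⟨5, -10⟩],
      ![⟨4, 2⟩, ⟨1, -2⟩, ⟨3, -3⟩, ⟨-3, 0⟩],
      ![⟨5, -7⟩, ⟨-1, -3⟩, ⟨2, -5⟩, ⟨2, -3⟩],
      ![⟨14, 1⟩, ⟨2, 0⟩, ⟨8, -3⟩, ⟨2, -1⟩],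
      ![⟨2, -4⟩, ⟨5, -2⟩, ⟨2, 0⟩, ⟨6, 0⟩]],
    ruOfArray ![![⟨10, -3⟩, ⟨3, -7⟩, ⟨10, 2⟩, ⟨8, 5⟩],
      ![⟨4, 0⟩, ⟨8, 1⟩, ⟨6, -7⟩, ⟨6, 0⟩],
      ![⟨2, -9⟩, ⟨5, -3⟩, ⟨3, -1⟩, ⟨12, -6⟩],
      ![⟨2, 2⟩, ⟨5, 0⟩, ⟨6, 0⟩, ⟨0, 0⟩],
      ![⟨8, -2⟩, ⟨3, -4⟩, ⟨5, -1⟩, ⟨-1, -3⟩],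
      ![⟨14, 1⟩, ⟨2, 3⟩, ⟨6, -3⟩, ⟨3, -4⟩],
      ![⟨1, -6⟩, ⟨4, -2⟩, ⟨3, -2⟩, ⟨7, -2⟩]],
    ruOfArray ![![⟨8, -3⟩, ⟨4, -5⟩, ⟨7, 2⟩, ⟨6, -1⟩],
      ![⟨9, 1⟩, ⟨6, 0⟩, ⟨4, -8⟩, ⟨6, -2⟩],
      ![⟨7, -8⟩, ⟨6, -1⟩, ⟨5, 4⟩, ⟨8, -1⟩],
      ![⟨3, 3⟩, ⟨5, 1⟩, ⟨6, 2⟩, ⟨3, -4⟩],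
      ![⟨8, -1⟩, ⟨2, -5⟩, ⟨5, -3⟩, ⟨0, -2⟩],
      ![⟨12, 1⟩, ⟨4, 1⟩, ⟨10, 2⟩, ⟨4, -2⟩],
      ![⟨2, -5⟩, ⟨5, -1⟩, ⟨1, -1⟩, ⟨7, 1⟩]],
    ruOfArray ![![⟨5, -1⟩, ⟨3, -7⟩, ⟨9, -2⟩, ⟨5, 2⟩],
      ![⟨5, -1⟩, ⟨8, -4⟩, ⟨8, -5⟩, ⟨6, -3⟩],
      ![⟨7, -5⟩, ⟨7, -5⟩, ⟨4, -1⟩, ⟨7, -6⟩],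
      ![⟨1, 0⟩, ⟨-1, 1⟩, ⟨7, -1⟩, ⟨1, 0⟩],
      ![⟨7, -7⟩, ⟨4, -5⟩, ⟨4, 0⟩, ⟨2, -4⟩],
      ![⟨10, -3⟩, ⟨3, 0⟩, ⟨5, -1⟩, ⟨5, -7⟩],
      ![⟨2, -5⟩, ⟨6, 1⟩, ⟨1, -4⟩, ⟨9, -2⟩]],
    ruOfArray ![![⟨9, -4⟩, ⟨3, -6⟩, ⟨7, 3⟩, ⟨8, -1⟩],
      ![⟨8, 1⟩, ⟨10, -2⟩, ⟨9, -8⟩, ⟨2, 1⟩],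
      ![⟨9, -8⟩, ⟨9, -4⟩, ⟨0, 2⟩, ⟨13, -7⟩],
      ![⟨4, 3⟩, ⟨6, -4⟩, ⟨5, 1⟩, ⟨2, -2⟩],
      ![⟨13, -4⟩, ⟨1, -5⟩, ⟨3, -1⟩, ⟨-1, -3⟩],
      ![⟨17, -1⟩, ⟨9, 0⟩, ⟨6, -1⟩, ⟨6, -5⟩],
      ![⟨2, -6⟩, ⟨7, 2⟩, ⟨3, -3⟩, ⟨12, 2⟩]],
    ruOfArray ![![⟨8, -7⟩, ⟨7, -7⟩, ⟨9, -2⟩, ⟨11, 3⟩],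
      ![⟨4, 3⟩, ⟨9, -3⟩, ⟨7, -8⟩, ⟨7, -1⟩],
      ![⟨6, -4⟩, ⟨8, -4⟩, ⟨1, 1⟩, ⟨9, -7⟩],
      ![⟨3, 0⟩, ⟨6, -3⟩, ⟨7, -2⟩, ⟨-1, -2⟩],
      ![⟨10, -2⟩, ⟨5, -4⟩, ⟨6, -4⟩, ⟨3, -5⟩],
      ![⟨13, 2⟩, ⟨4, -1⟩, ⟨6, -2⟩, ⟨4, -3⟩],
      ![⟨4, -6⟩, ⟨7, 0⟩, ⟨2, -3⟩, ⟨11, 1⟩]],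
    ruOfArray ![![⟨7, 2⟩, ⟨1, -6⟩, ⟨8, 2⟩, ⟨4, 0⟩],
      ![⟨3, 0⟩, ⟨5, 1⟩, ⟨5, -3⟩, ⟨4, -3⟩],
      ![⟨5, -4⟩, ⟨6, -10⟩, ⟨1, -1⟩, ⟨6, -5⟩],
      ![⟨1, 0⟩, ⟨2, 0⟩, ⟨4, 1⟩, ⟨3, 0⟩],
      ![⟨6, -3⟩, ⟨3, -4⟩, ⟨3, -3⟩, ⟨1, -1⟩],
      ![⟨15, 0⟩, ⟨2, 3⟩, ⟨0, -1⟩, ⟨3, -3⟩],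
      ![⟨3, -3⟩, ⟨2, 1⟩, ⟨2, -2⟩, ⟨8, 1⟩]],
    ruOfArray ![![⟨6, -4⟩, ⟨2, -3⟩, ⟨10, -3⟩, ⟨6, -2⟩],
      ![⟨8, -4⟩, ⟨7, -1⟩, ⟨4, -6⟩, ⟨7, -4⟩],
      ![⟨4, -5⟩, ⟨5, -6⟩, ⟨3, 0⟩, ⟨8, 0⟩],
      ![⟨2, 4⟩, ⟨7, 2⟩, ⟨5, -3⟩, ⟨2, -3⟩],
      ![⟨11, 2⟩, ⟨4, -6⟩, ⟨4, -3⟩, ⟨1, -5⟩],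
      ![⟨13, 1⟩, ⟨2, 2⟩, ⟨9, -2⟩, ⟨3, 0⟩],
      ![⟨6, -4⟩, ⟨4, -4⟩, ⟨4, -2⟩, ⟨5, -1⟩]],
    ruOfArray ![![⟨8, 0⟩, ⟨2, -6⟩, ⟨12, -1⟩, ⟨7, 3⟩],
      ![⟨3, 0⟩, ⟨7, -2⟩, ⟨8, -3⟩, ⟨9, 0⟩],
      ![⟨8, -6⟩, ⟨5, -9⟩, ⟨3, 3⟩, ⟨8, -8⟩],
      ![⟨1, 0⟩, ⟨2, 0⟩, ⟨7, -1⟩, ⟨3, -2⟩],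
      ![⟨8, -3⟩, ⟨4, -5⟩, ⟨5, -2⟩, ⟨1, -3⟩],
      ![⟨11, -5⟩, ⟨3, 2⟩, ⟨1, -2⟩, ⟨8, -4⟩],
      ![⟨5, -6⟩, ⟨1, 1⟩, ⟨1, -4⟩, ⟨10, -1⟩]],
    ruOfArray ![![⟨5, -3⟩, ⟨-1, -10⟩, ⟨11, -2⟩, ⟨8, 2⟩],
      ![⟨7, 3⟩, ⟨7, -1⟩, ⟨10, -6⟩, ⟨8, -2⟩],
      ![⟨10, -7⟩, ⟨9, -9⟩, ⟨-1, 1⟩, ⟨7, -5⟩],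
      ![⟨-2, 2⟩, ⟨5, 0⟩, ⟨3, -4⟩, ⟨3, -3⟩],
      ![⟨8, -4⟩, ⟨6, -5⟩, ⟨2, -4⟩, ⟨0, -2⟩],
      ![⟨18, -3⟩, ⟨4, 1⟩, ⟨2, 1⟩, ⟨3, -5⟩],
      ![⟨5, -6⟩, ⟨3, 0⟩, ⟨1, -4⟩, ⟨9, -1⟩]],
    ruOfArray ![![⟨4, -1⟩, ⟨6, -7⟩, ⟨7, 1⟩, ⟨5, 3⟩],
      ![⟨4, 4⟩, ⟨5, -1⟩, ⟨7, -4⟩, ⟨4, 0⟩],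
      ![⟨4, -1⟩, ⟨5, 1⟩, ⟨0, 1⟩, ⟨4, -5⟩],
      ![⟨3, 0⟩, ⟨2, 0⟩, ⟨4, -2⟩, ⟨0, 0⟩],
      ![⟨5, 0⟩, ⟨4, -3⟩, ⟨3, 1⟩, ⟨0, -3⟩],
      ![⟨8, 1⟩, ⟨3, 1⟩, ⟨4, 0⟩, ⟨2, -3⟩],
      ![⟨4, -4⟩, ⟨6, -2⟩, ⟨3, -3⟩, ⟨8, 1⟩]]]]

def tabC : Fin 20 → Fin 19 → GaussianInt := ![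
  ![⟨0, 0⟩, ⟨0, 0⟩, ⟨0, 0⟩, ⟨0, 0⟩, ⟨0, 0⟩, ⟨0, 0⟩, ⟨0, 0⟩, ⟨0, 0⟩, ⟨0, 0⟩, ⟨0, 0⟩, ⟨0, 0⟩, ⟨0, 0⟩, ⟨0, 0⟩, ⟨0, 0⟩, ⟨0, 0⟩, ⟨0, 0⟩, ⟨0, 0⟩, ⟨0, 0⟩, ⟨0, 0⟩],
  ![⟨2, 3⟩, ⟨2, 1⟩, ⟨-1, 4⟩, ⟨2, 3⟩, ⟨1, 2⟩, ⟨-1, 4⟩, ⟨0, 2⟩, ⟨-1, 2⟩, ⟨-1, 4⟩, ⟨-3, 1⟩, ⟨-2, -1⟩, ⟨-2, -1⟩, ⟨-2, -1⟩, ⟨-1, 0⟩, ⟨-2, -1⟩, ⟨-2, -1⟩, ⟨-1, 0⟩, ⟨-1, -1⟩, ⟨0, 0⟩],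
  ![⟨0, 3⟩, ⟨0, 5⟩, ⟨1, 0⟩, ⟨0, 3⟩, ⟨-1, 2⟩, ⟨1, 0⟩, ⟨-2, 2⟩, ⟨1, 0⟩, ⟨-1, 2⟩, ⟨-2, 0⟩, ⟨-1, -1⟩, ⟨-1, -1⟩, ⟨-1, 0⟩, ⟨-2, -1⟩, ⟨-2, -1⟩, ⟨-1, 0⟩, ⟨0, 0⟩, ⟨-1, 0⟩, ⟨0, -1⟩],
  ![⟨2, 1⟩, ⟨0, 3⟩, ⟨-1, 2⟩, ⟨2, 3⟩, ⟨1, 0⟩, ⟨1, 0⟩, ⟨-2, 4⟩, ⟨1, 0⟩, ⟨1, 0⟩, ⟨0, 0⟩, ⟨-1, 0⟩, ⟨-1, -1⟩, ⟨0, 0⟩, ⟨-2, -1⟩, ⟨-2, -1⟩, ⟨-1, 0⟩, ⟨-2, -1⟩, ⟨-1, -1⟩, ⟨0, -1⟩],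
  ![⟨0, 5⟩, ⟨2, 3⟩, ⟨1, 2⟩, ⟨0, 3⟩, ⟨-1, 4⟩, ⟨-1, 4⟩, ⟨0, 0⟩, ⟨-1, 2⟩, ⟨1, 2⟩, ⟨-1, 1⟩, ⟨0, 0⟩, ⟨-2, -1⟩, ⟨-1, -1⟩, ⟨-1, 0⟩, ⟨-2, -1⟩, ⟨-2, -1⟩, ⟨-1, -1⟩, ⟨-1, 0⟩, ⟨0, 0⟩],
  ![⟨1, 2⟩, ⟨0, 2⟩, ⟨1, 1⟩, ⟨0, 3⟩, ⟨1, 2⟩, ⟨1, 3⟩, ⟨0, 3⟩, ⟨1, 0⟩, ⟨-1, 5⟩, ⟨-3, 2⟩, ⟨0, 0⟩, ⟨-2, -1⟩, ⟨-1, 0⟩, ⟨-2, -1⟩, ⟨-1, -1⟩, ⟨0, 0⟩, ⟨0, 0⟩, ⟨0, 0⟩, ⟨0, -1⟩],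
  ![⟨0, 0⟩, ⟨1, 0⟩, ⟨-1, 4⟩, ⟨0, 2⟩, ⟨1, 1⟩, ⟨-2, 4⟩, ⟨1, 1⟩, ⟨-1, 5⟩, ⟨2, 3⟩, ⟨-3, 1⟩, ⟨-1, 0⟩, ⟨-2, -1⟩, ⟨-1, 0⟩, ⟨-1, -1⟩, ⟨-2, -1⟩, ⟨-1, -1⟩, ⟨-2, -1⟩, ⟨-1, 0⟩, ⟨0, 0⟩],
  ![⟨1, 3⟩, ⟨2, 1⟩, ⟨1, 0⟩, ⟨0, 2⟩, ⟨-1, 5⟩, ⟨-1, 3⟩, ⟨-1, 3⟩, ⟨1, 3⟩, ⟨-1, 2⟩, ⟨0, 1⟩, ⟨-1, 0⟩, ⟨0, 0⟩, ⟨0, 0⟩, ⟨0, 0⟩, ⟨-1, -1⟩, ⟨0, 0⟩, ⟨-1, -1⟩, ⟨-1, 0⟩, ⟨0, 0⟩],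
  ![⟨0, 2⟩, ⟨0, 3⟩, ⟨0, 5⟩, ⟨0, 5⟩, ⟨2, 1⟩, ⟨2, 1⟩, ⟨2, 3⟩, ⟨0, 2⟩, ⟨1, 3⟩, ⟨-3, 2⟩, ⟨0, 0⟩, ⟨-2, -1⟩, ⟨-1, 0⟩, ⟨-2, -1⟩, ⟨-1, -1⟩, ⟨0, 0⟩, ⟨-2, -1⟩, ⟨0, 0⟩, ⟨0, -1⟩],
  ![⟨-1, 3⟩, ⟨-1, 4⟩, ⟨0, 5⟩, ⟨-1, 2⟩, ⟨1, 0⟩, ⟨2, 1⟩, ⟨-1, 2⟩, ⟨0, 2⟩, ⟨1, 1⟩, ⟨-2, 0⟩, ⟨-1, 0⟩, ⟨-2, -1⟩, ⟨-2, -1⟩, ⟨0, 0⟩, ⟨-2, -1⟩, ⟨0, 0⟩, ⟨-2, -1⟩, ⟨-1, 0⟩, ⟨0, 0⟩],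
  ![⟨0, 3⟩, ⟨0, 0⟩, ⟨1, 1⟩, ⟨1, 1⟩, ⟨1, 1⟩, ⟨-1, 4⟩, ⟨-1, 5⟩, ⟨-1, 2⟩, ⟨0, 3⟩, ⟨0, 0⟩, ⟨-2, -1⟩, ⟨-2, -1⟩, ⟨-2, -1⟩, ⟨-1, 0⟩, ⟨-2, -1⟩, ⟨-1, -1⟩, ⟨-1, -1⟩, ⟨-1, 0⟩, ⟨0, -1⟩],
  ![⟨2, 3⟩, ⟨0, 0⟩, ⟨-2, 4⟩, ⟨-1, 5⟩, ⟨1, 3⟩, ⟨-1, 4⟩, ⟨-1, 5⟩, ⟨2, 1⟩, ⟨1, 0⟩, ⟨-3, 2⟩, ⟨-1, 0⟩, ⟨-2, -1⟩, ⟨0, 0⟩, ⟨-2, -1⟩, ⟨-2, -1⟩, ⟨-1, 0⟩, ⟨0, 0⟩, ⟨0, 0⟩, ⟨0, 0⟩],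
  ![⟨0, 2⟩, ⟨-1, 4⟩, ⟨0, 3⟩, ⟨1, 1⟩, ⟨0, 0⟩, ⟨0, 2⟩, ⟨1, 0⟩, ⟨-2, 2⟩, ⟨0, 0⟩, ⟨0, 1⟩, ⟨-1, 0⟩, ⟨-1, 0⟩, ⟨-1, -1⟩, ⟨-2, -1⟩, ⟨-1, -1⟩, ⟨-1, -1⟩, ⟨-1, -1⟩, ⟨-2, -1⟩, ⟨0, 0⟩],
  ![⟨-1, 3⟩, ⟨0, 3⟩, ⟨2, 3⟩, ⟨1, 1⟩, ⟨0, 2⟩, ⟨1, 3⟩, ⟨2, 1⟩, ⟨-2, 4⟩, ⟨0, 2⟩, ⟨-1, 1⟩, ⟨-1, -1⟩, ⟨-1, -1⟩, ⟨-1, -1⟩, ⟨-2, -1⟩, ⟨0, 0⟩, ⟨-1, 0⟩, ⟨0, 0⟩, ⟨-1, 0⟩, ⟨0, 0⟩],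
  ![⟨1, 0⟩, ⟨-2, 2⟩, ⟨-2, 2⟩, ⟨2, 1⟩, ⟨-1, 4⟩, ⟨-2, 4⟩, ⟨0, 0⟩, ⟨2, 3⟩, ⟨1, 2⟩, ⟨-3, 1⟩, ⟨-1, -1⟩, ⟨0, 0⟩, ⟨0, 0⟩, ⟨-1, 0⟩, ⟨0, 0⟩, ⟨-1, 0⟩, ⟨-1, 0⟩, ⟨0, 0⟩, ⟨0, -1⟩],
  ![⟨1, 0⟩, ⟨-2, 4⟩, ⟨1, 3⟩, ⟨-1, 2⟩, ⟨0, 5⟩, ⟨1, 3⟩, ⟨-2, 2⟩, ⟨-1, 4⟩, ⟨2, 1⟩, ⟨-2, 1⟩, ⟨-1, -1⟩, ⟨-2, -1⟩, ⟨-1, 0⟩, ⟨0, 0⟩, ⟨-2, -1⟩, ⟨-2, -1⟩, ⟨-2, -1⟩, ⟨-1, -1⟩, ⟨0, -1⟩],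
  ![⟨0, 3⟩, ⟨-2, 4⟩, ⟨0, 0⟩, ⟨-2, 2⟩, ⟨0, 2⟩, ⟨1, 2⟩, ⟨0, 5⟩, ⟨2, 3⟩, ⟨-1, 5⟩, ⟨0, 1⟩, ⟨-1, -1⟩, ⟨-2, -1⟩, ⟨-2, -1⟩, ⟨0, 0⟩, ⟨-2, -1⟩, ⟨-1, 0⟩, ⟨-1, 0⟩, ⟨-2, -1⟩, ⟨0, -1⟩],
  ![⟨0, 5⟩, ⟨0, 2⟩, ⟨-1, 3⟩, ⟨0, 2⟩, ⟨0, 0⟩, ⟨1, 0⟩, ⟨-1, 4⟩, ⟨1, 0⟩, ⟨-1, 3⟩, ⟨-3, 1⟩, ⟨-2, -1⟩, ⟨0, 0⟩, ⟨-2, -1⟩, ⟨-2, -1⟩, ⟨-1, 0⟩, ⟨-2, -1⟩, ⟨-1, 0⟩, ⟨0, 0⟩, ⟨0, -1⟩],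
  ![⟨-2, 2⟩, ⟨2, 3⟩, ⟨1, 0⟩, ⟨0, 5⟩, ⟨2, 1⟩, ⟨-1, 4⟩, ⟨1, 1⟩, ⟨-1, 3⟩, ⟨0, 3⟩, ⟨0, 0⟩, ⟨-1, 0⟩, ⟨-1, 0⟩, ⟨-2, -1⟩, ⟨-1, -1⟩, ⟨-1, -1⟩, ⟨-1, -1⟩, ⟨-2, -1⟩, ⟨0, 0⟩, ⟨0, 0⟩],
  ![⟨1, 3⟩, ⟨1, 0⟩, ⟨1, 2⟩, ⟨1, 2⟩, ⟨1, 2⟩, ⟨1, 2⟩, ⟨-1, 5⟩, ⟨-1, 3⟩, ⟨1, 2⟩, ⟨-1, 2⟩, ⟨-2, -1⟩, ⟨0, 0⟩, ⟨-1, -1⟩, ⟨0, 0⟩, ⟨-2, -1⟩, ⟨-2, -1⟩, ⟨-2, -1⟩, ⟨-2, -1⟩, ⟨0, 0⟩]]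

def tabZ : Fin 20 → RuVec := ![
  ruOfArray ![![⟨1, 0⟩, ⟨0, 0⟩, ⟨0, 0⟩, ⟨0, 0⟩],
      ![⟨0, 0⟩, ⟨0, 0⟩, ⟨0, 0⟩, ⟨0, 0⟩],
      ![⟨0, 0⟩, ⟨0, 0⟩, ⟨0, 0⟩, ⟨0, 0⟩],
      ![⟨0, 0⟩, ⟨0, 0⟩, ⟨0, 0⟩, ⟨0, 0⟩],
      ![⟨0, 0⟩, ⟨0, 0⟩, ⟨0, 0⟩, ⟨0, 0⟩],
      ![⟨0, 0⟩, ⟨0, 0⟩, ⟨0, 0⟩, ⟨0, 0⟩],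
      ![⟨0, 0⟩, ⟨0, 0⟩, ⟨0, 0⟩, ⟨0, 0⟩]],
  ruOfArray ![![⟨14, -4⟩, ⟨1, -10⟩, ⟨12, -1⟩, ⟨12, -2⟩],
      ![⟨8, -2⟩, ⟨11, -1⟩, ⟨10, -7⟩, ⟨7, -1⟩],
      ![⟨7, -11⟩, ⟨6, -7⟩, ⟨4, 2⟩, ⟨11, -6⟩],
      ![⟨6, 4⟩, ⟨7, 0⟩, ⟨8, -2⟩, ⟨1, -3⟩],
      ![⟨14, -4⟩, ⟨4, -8⟩, ⟨6, -3⟩, ⟨1, -4⟩],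
      ![⟨22, -6⟩, ⟨6, 3⟩, ⟨8, -4⟩, ⟨5, -8⟩],
      ![⟨5, -8⟩, ⟨6, 0⟩, ⟨2, -4⟩, ⟨13, -2⟩]],
  ruOfArray ![![⟨5, -1⟩, ⟨3, -6⟩, ⟨5, -3⟩, ⟨8, 0⟩],
      ![⟨5, -1⟩, ⟨7, 1⟩, ⟨5, -6⟩, ⟨2, -3⟩],
      ![⟨7, -6⟩, ⟨5, -5⟩, ⟨3, 3⟩, ⟨4, -4⟩],
      ![⟨4, 2⟩, ⟨5, 6⟩, ⟨4, -3⟩, ⟨3, -2⟩],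
      ![⟨9, -4⟩, ⟨1, -5⟩, ⟨3, -4⟩, ⟨-2, -6⟩],
      ![⟨14, 0⟩, ⟨7, 3⟩, ⟨8, -4⟩, ⟨7, -6⟩],
      ![⟨4, -7⟩, ⟨5, -2⟩, ⟨2, -3⟩, ⟨7, -2⟩]],
  ruOfArray ![![⟨4, 4⟩, ⟨2, -7⟩, ⟨7, 0⟩, ⟨3, 0⟩],
      ![⟨1, -1⟩, ⟨8, 2⟩, ⟨6, -5⟩, ⟨5, -4⟩],
      ![⟨6, -7⟩, ⟨6, -7⟩, ⟨4, 2⟩, ⟨5, -6⟩],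
      ![⟨2, 2⟩, ⟨2, 3⟩, ⟨7, -2⟩, ⟨2, 0⟩],
      ![⟨9, -7⟩, ⟨2, -4⟩, ⟨1, -3⟩, ⟨2, -6⟩],
      ![⟨14, -1⟩, ⟨3, 4⟩, ⟨6, -4⟩, ⟨8, -5⟩],
      ![⟨4, -7⟩, ⟨7, 1⟩, ⟨2, -3⟩, ⟨7, 0⟩]],
  ruOfArray ![![⟨10, -2⟩, ⟨3, -5⟩, ⟨10, 1⟩, ⟨10, 0⟩],
      ![⟨6, -3⟩, ⟨10, -1⟩, ⟨4, -5⟩, ⟨6, 0⟩],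
      ![⟨4, -9⟩, ⟨3, -6⟩, ⟨3, 1⟩, ⟨10, -8⟩],
      ![⟨4, 4⟩, ⟨7, -2⟩, ⟨8, 1⟩, ⟨0, -3⟩],
      ![⟨11, -3⟩, ⟨0, -6⟩, ⟨4, -3⟩, ⟨2, -1⟩],
      ![⟨19, -2⟩, ⟨4, 2⟩, ⟨7, -3⟩, ⟨5, -3⟩],
      ![⟨3, -3⟩, ⟨2, -1⟩, ⟨1, -3⟩, ⟨9, -2⟩]],
  ruOfArray ![![⟨5, -4⟩, ⟨-1, -6⟩, ⟨8, -5⟩, ⟨7, -3⟩],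
      ![⟨5, -2⟩, ⟨5, 2⟩, ⟨4, -6⟩, ⟨3, -4⟩],
      ![⟨5, -8⟩, ⟨4, -8⟩, ⟨0, 3⟩, ⟨3, -3⟩],
      ![⟨3, 4⟩, ⟨9, 3⟩, ⟨0, -5⟩, ⟨2, -3⟩],
      ![⟨9, -1⟩, ⟨2, -7⟩, ⟨0, -6⟩, ⟨0, -3⟩],
      ![⟨15, -3⟩, ⟨5, 6⟩, ⟨7, -3⟩, ⟨5, -2⟩],
      ![⟨6, -6⟩, ⟨4, -2⟩, ⟨2, -1⟩, ⟨6, -1⟩]],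
  ruOfArray ![![⟨10, -5⟩, ⟨1, -8⟩, ⟨14, -1⟩, ⟨7, 1⟩],
      ![⟨6, -3⟩, ⟨8, 0⟩, ⟨6, -7⟩, ⟨10, -2⟩],
      ![⟨8, -11⟩, ⟨7, -9⟩, ⟨2, 1⟩, ⟨12, -7⟩],
      ![⟨2, 1⟩, ⟨5, -2⟩, ⟨8, -2⟩, ⟨0, -4⟩],
      ![⟨13, -6⟩, ⟨3, -7⟩, ⟨2, -5⟩, ⟨1, -4⟩],
      ![⟨16, -4⟩, ⟨1, 4⟩, ⟨6, -5⟩, ⟨6, -4⟩],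
      ![⟨4, -9⟩, ⟨3, 0⟩, ⟨1, -3⟩, ⟨12, -4⟩]],
  ruOfArray ![![⟨2, 0⟩, ⟨-1, -4⟩, ⟨7, -1⟩, ⟨7, -1⟩],
      ![⟨5, -1⟩, ⟨3, -2⟩, ⟨2, -3⟩, ⟨3, -3⟩],
      ![⟨5, -3⟩, ⟨4, -6⟩, ⟨1, 0⟩, ⟨5, -6⟩],
      ![⟨0, 3⟩, ⟨3, -2⟩, ⟨3, -1⟩, ⟨1, -1⟩],
      ![⟨6, -2⟩, ⟨1, -3⟩, ⟨0, -3⟩, ⟨-1, 1⟩],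
      ![⟨12, -1⟩, ⟨1, 1⟩, ⟨2, 1⟩, ⟨2, -2⟩],
      ![⟨2, 0⟩, ⟨-1, 1⟩, ⟨0, -2⟩, ⟨5, 0⟩]],
  ruOfArray ![![⟨5, -5⟩, ⟨1, -11⟩, ⟨9, -4⟩, ⟨5, 1⟩],
      ![⟨2, 0⟩, ⟨7, 2⟩, ⟨3, -6⟩, ⟨6, -5⟩],
      ![⟨5, -8⟩, ⟨5, -10⟩, ⟨1, 2⟩, ⟨5, -5⟩],
      ![⟨2, 2⟩, ⟨6, 0⟩, ⟨4, -4⟩, ⟨-1, -3⟩],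
      ![⟨9, -5⟩, ⟨2, -6⟩, ⟨-3, -7⟩, ⟨3, -6⟩],
      ![⟨17, -4⟩, ⟨2, 6⟩, ⟨6, -6⟩, ⟨7, -2⟩],
      ![⟨8, -10⟩, ⟨5, -1⟩, ⟨2, -1⟩, ⟨10, -1⟩]],
  ruOfArray ![![⟨9, -4⟩, ⟨3, -10⟩, ⟨8, 0⟩, ⟨3, 2⟩],
      ![⟨3, -1⟩, ⟨7, 0⟩, ⟨5, -6⟩, ⟨8, -4⟩],
      ![⟨4, -7⟩, ⟨2, -5⟩, ⟨5, -2⟩, ⟨5, -6⟩],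
      ![⟨3, 0⟩, ⟨-1, 0⟩, ⟨8, 1⟩, ⟨-1, 0⟩],
      ![⟨7, -5⟩, ⟨1, -4⟩, ⟨3, -2⟩, ⟨3, -4⟩],
      ![⟨15, -4⟩, ⟨0, 2⟩, ⟨5, -1⟩, ⟨5, -4⟩],
      ![⟨7, -6⟩, ⟨4, -2⟩, ⟨2, -1⟩, ⟨9, -4⟩]],
  ruOfArray ![![⟨10, -1⟩, ⟨5, -8⟩, ⟨13, -2⟩, ⟨9, 0⟩],
      ![⟨8, -3⟩, ⟨9, -1⟩, ⟨8, -7⟩, ⟨11, -5⟩],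
      ![⟨10, -10⟩, ⟨5, -6⟩, ⟨6, 4⟩, ⟨8, -8⟩],
      ![⟨4, 2⟩, ⟨5, 1⟩, ⟨9, -2⟩, ⟨3, -3⟩],
      ![⟨12, -3⟩, ⟨3, -6⟩, ⟨6, -3⟩, ⟨3, -3⟩],
      ![⟨17, -4⟩, ⟨3, 2⟩, ⟨9, -1⟩, ⟨5, -5⟩],
      ![⟨7, -6⟩, ⟨5, 0⟩, ⟨2, -3⟩, ⟨10, -3⟩]],
  ruOfArray ![![⟨7, 1⟩, ⟨0, -9⟩, ⟨7, -1⟩, ⟨7, -2⟩],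
      ![⟨3, -3⟩, ⟨5, 3⟩, ⟨3, -9⟩, ⟨4, -4⟩],
      ![⟨4, -9⟩, ⟨8, -9⟩, ⟨2, 3⟩, ⟨5, -6⟩],
      ![⟨2, 2⟩, ⟨4, 2⟩, ⟨2, -1⟩, ⟨2, -2⟩],
      ![⟨7, -5⟩, ⟨1, -5⟩, ⟨2, -7⟩, ⟨-2, -1⟩],
      ![⟨18, -2⟩, ⟨3, 6⟩, ⟨5, -5⟩, ⟨3, -6⟩],
      ![⟨1, -4⟩, ⟨2, 1⟩, ⟨0, -2⟩, ⟨5, -2⟩]],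
  ruOfArray ![![⟨9, -1⟩, ⟨2, -4⟩, ⟨10, -1⟩, ⟨7, 4⟩],
      ![⟨5, 1⟩, ⟨11, 1⟩, ⟨4, -5⟩, ⟨7, -1⟩],
      ![⟨5, -6⟩, ⟨4, -6⟩, ⟨5, 2⟩, ⟨7, -4⟩],
      ![⟨2, 3⟩, ⟨4, 2⟩, ⟨8, 2⟩, ⟨2, -2⟩],
      ![⟨9, -2⟩, ⟨4, -6⟩, ⟨4, -2⟩, ⟨3, -3⟩],
      ![⟨10, -2⟩, ⟨4, 3⟩, ⟨5, -4⟩, ⟨7, -3⟩],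
      ![⟨2, -5⟩, ⟨3, -1⟩, ⟨2, -5⟩, ⟨9, 1⟩]],
  ruOfArray ![![⟨7, -6⟩, ⟨2, -7⟩, ⟨9, -4⟩, ⟨9, 5⟩],
      ![⟨5, 2⟩, ⟨6, 0⟩, ⟨2, -4⟩, ⟨5, 0⟩],
      ![⟨4, -6⟩, ⟨4, -4⟩, ⟨3, 3⟩, ⟨4, -7⟩],
      ![⟨4, 2⟩, ⟨5, 0⟩, ⟨3, -2⟩, ⟨-1, -4⟩],
      ![⟨5, -2⟩, ⟨2, -5⟩, ⟨1, -3⟩, ⟨-1, -2⟩],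
      ![⟨10, -5⟩, ⟨3, 2⟩, ⟨4, -6⟩, ⟨5, -4⟩],
      ![⟨2, -4⟩, ⟨3, -3⟩, ⟨1, -3⟩, ⟨10, -1⟩]],
  ruOfArray ![![⟨3, -2⟩, ⟨0, -4⟩, ⟨6, -6⟩, ⟨7, -1⟩],
      ![⟨2, -2⟩, ⟨3, -3⟩, ⟨4, -4⟩, ⟨3, -4⟩],
      ![⟨3, -5⟩, ⟨7, -9⟩, ⟨1, 4⟩, ⟨7, -9⟩],
      ![⟨1, 2⟩, ⟨4, -3⟩, ⟨-1, -6⟩, ⟨-3, -3⟩],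
      ![⟨7, -7⟩, ⟨1, -5⟩, ⟨-1, -3⟩, ⟨-3, -3⟩],
      ![⟨11, 1⟩, ⟨3, -1⟩, ⟨2, -3⟩, ⟨3, -2⟩],
      ![⟨-1, -5⟩, ⟨4, 1⟩, ⟨1, -1⟩, ⟨7, -1⟩]],
  ruOfArray ![![⟨9, -3⟩, ⟨4, -7⟩, ⟨12, 0⟩, ⟨7, 1⟩],
      ![⟨4, -2⟩, ⟨9, -1⟩, ⟨9, -10⟩, ⟨6, -3⟩],
      ![⟨7, -9⟩, ⟨7, -8⟩, ⟨3, 2⟩, ⟨11, -12⟩],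
      ![⟨4, 1⟩, ⟨2, -3⟩, ⟨8, 0⟩, ⟨0, 0⟩],
      ![⟨14, -7⟩, ⟨0, -6⟩, ⟨5, -3⟩, ⟨2, -6⟩],
      ![⟨19, -3⟩, ⟨3, 2⟩, ⟨10, -1⟩, ⟨9, -5⟩],
      ![⟨4, -7⟩, ⟨8, 0⟩, ⟨4, -2⟩, ⟨12, -4⟩]],
  ruOfArray ![![⟨7, -2⟩, ⟨4, -7⟩, ⟨11, -5⟩, ⟨8, -2⟩],
      ![⟨7, -4⟩, ⟨8, -2⟩, ⟨6, -9⟩, ⟨5, -5⟩],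
      ![⟨4, -10⟩, ⟨5, -7⟩, ⟨4, 2⟩, ⟨8, -9⟩],
      ![⟨8, 4⟩, ⟨3, 0⟩, ⟨6, -4⟩, ⟨3, -1⟩],
      ![⟨14, -5⟩, ⟨1, -7⟩, ⟨5, -2⟩, ⟨1, -6⟩],
      ![⟨17, -4⟩, ⟨7, 4⟩, ⟨12, -2⟩, ⟨6, -6⟩],
      ![⟨8, -6⟩, ⟨8, -4⟩, ⟨4, -2⟩, ⟨10, -2⟩]],
  ruOfArray ![![⟨5, -4⟩, ⟨5, -8⟩, ⟨6, -6⟩, ⟨11, 0⟩],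
      ![⟨5, -1⟩, ⟨9, -2⟩, ⟨6, -8⟩, ⟨5, -6⟩],
      ![⟨6, -9⟩, ⟨6, -5⟩, ⟨4, 4⟩, ⟨4, -4⟩],
      ![⟨2, 5⟩, ⟨5, 3⟩, ⟨7, -6⟩, ⟨0, -4⟩],
      ![⟨9, -5⟩, ⟨4, -6⟩, ⟨5, -5⟩, ⟨3, -6⟩],
      ![⟨15, -1⟩, ⟨4, 1⟩, ⟨10, -4⟩, ⟨4, -6⟩],
      ![⟨4, -8⟩, ⟨7, 1⟩, ⟨1, -4⟩, ⟨7, 1⟩]],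
  ruOfArray ![![⟨7, -3⟩, ⟨3, -8⟩, ⟨12, -2⟩, ⟨9, 2⟩],
      ![⟨8, -2⟩, ⟨7, -1⟩, ⟨2, -1⟩, ⟨10, -3⟩],
      ![⟨6, -8⟩, ⟨1, -5⟩, ⟨5, 2⟩, ⟨5, -3⟩],
      ![⟨0, 4⟩, ⟨3, 1⟩, ⟨11, -2⟩, ⟨0, -4⟩],
      ![⟨10, 0⟩, ⟨4, -5⟩, ⟨3, -6⟩, ⟨6, -3⟩],
      ![⟨12, -2⟩, ⟨-1, 3⟩, ⟨9, -2⟩, ⟨6, -2⟩],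
      ![⟨8, -5⟩, ⟨1, 0⟩, ⟨1, -3⟩, ⟨9, -1⟩]],
  ruOfArray ![![⟨7, -2⟩, ⟨2, -5⟩, ⟨10, -2⟩, ⟨8, 1⟩],
      ![⟨5, -2⟩, ⟨10, -3⟩, ⟨7, -9⟩, ⟨7, -3⟩],
      ![⟨7, -8⟩, ⟨4, -7⟩, ⟨4, 2⟩, ⟨11, -8⟩],
      ![⟨4, 5⟩, ⟨2, -3⟩, ⟨10, -1⟩, ⟨1, -2⟩],
      ![⟨13, -7⟩, ⟨2, -6⟩, ⟨4, -3⟩, ⟨3, -4⟩],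
      ![⟨18, -7⟩, ⟨2, 1⟩, ⟨9, -2⟩, ⟨4, -7⟩],
      ![⟨5, -5⟩, ⟨5, 2⟩, ⟨1, -5⟩, ⟨9, -1⟩]]]


end Cfsg.Agent.Lib.Helper8.RuLat
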