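import Cfsg.Agent.Lib.Helper8.RuLat.MemM

/-!
A reflected exhaustive search: no vector supported on a short list of positions, with prescribed unit
multiples as entries, lies in `ruM`. The search adds up packed residues modulo 4 of the Hermitian products
with the 19 check vectors. (helper8)
-/

set_option autoImplicit false

namespace Cfsg.Agent.Lib.Helper8.RuLat

open Cfsg.Spor

/-- the four units of `ℤ[i]` -/
def unitG : Fin 4 → GaussianInt := ![1, gI, -1, -gI]

theorem unit_of_norm_one {z : GaussianInt} (h : z.norm = 1) : ∃ a : Fin 4, z = unitG a := by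
  obtain ⟨a, b⟩ := z
  rw [Zsqrtd.norm_def] at h
  simp only at h
  have h' : a * a + b * b = 1 := by
    have := h
    ring_nf at this ⊢
    linarith
  have ha1 : -1 ≤ a := by nlinarith [mul_self_nonneg b]
  have ha2 : a ≤ 1 := by nlinarith [mul_self_nonneg b]
  have hb1 : -1 ≤ b := by nlinarith [mul_self_nonneg a]
  have hb2 : b ≤ 1 := by nlinarith [mul_self_nonneg a]
  clear h
  interval_cases a <;> interval_cases b <;> simp at h'
  · exact ⟨2, by decide⟩
  · exact ⟨3, by decide⟩
  · exact ⟨1, by decide⟩
  · exact ⟨0, by decide⟩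

/-! ### packing small numbers in base 32 -/

/-- pack the digits `F f < 32` -/
def packF (n : ℕ) (F : Fin n → ℕ) : ℕ := ∑ f : Fin n, F f * 32 ^ (f : ℕ)

theorem packF_succ (n : ℕ) (F : Fin (n + 1) → ℕ) :
    packF (n + 1) F = F 0 + 32 * packF n (fun f => F f.succ) := by
  simp only [packF, Fin.sum_univ_succ, Fin.val_zero, pow_zero, mul_one, Fin.val_succ, pow_succ,
    Finset.mul_sum]
  congr 1
  refine Finset.sum_congr rfl fun f _ => ?_
  ring

/-- is some base-32 digit (among the first `k`) not divisible by 4? -/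
def anyNZ4 : ℕ → ℕ → Bool
  | 0, _ => false
  | k + 1, n => (n % 32 % 4 != 0) || anyNZ4 k (n / 32)

theorem anyNZ4_packF : ∀ (n : ℕ) (F : Fin n → ℕ), (∀ f, F f < 32) →
    (anyNZ4 n (packF n F) = true ↔ ∃ f, F f % 4 ≠ 0)
  | 0, F, _ => by simp [anyNZ4]
  | n + 1, F, hF => by
    rw [packF_succ]
    have h0 := hF 0
    have e1 : (F 0 + 32 * packF n (fun f => F f.succ)) % 32 = F 0 := by omega
    have e2 : (F 0 + 32 * packF n (fun f => F f.succ)) / 32 = packF n (fun f => F f.succ) := by omega
    simp only [anyNZ4, e1, e2, Bool.or_eq_true, bne_iff_ne, ne_eq]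
    rw [anyNZ4_packF n _ (fun f => hF f.succ), Fin.exists_fin_succ]

theorem sum_packF (n : ℕ) (R : RuIdx → Fin n → ℕ) : ∀ ps : List RuIdx,
    (ps.map fun p => packF n (R p)).sum = packF n (fun f => (ps.map fun p => R p f).sum)
  | [] => by simp [packF]
  | p :: ps => by
    rw [List.map_cons, List.sum_cons, sum_packF n R ps]
    simp only [packF, List.map_cons, List.sum_cons, add_mul, Finset.sum_add_distrib]

/-! ### the search -/

/-- depth-first search over all choices, one from each list of options -/
def dfsP : List (List ℕ) → ℕ → Bool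
  | [], acc => anyNZ4 38 acc
  | opts :: rest, acc => opts.all fun c => dfsP rest (acc + c)

theorem dfsP_sound (P : RuIdx → Fin 4 → ℕ) (opt : RuIdx → List (Fin 4)) :
    ∀ (ps : List RuIdx) (acc : ℕ),
    dfsP (ps.map fun p => (opt p).map (P p)) acc = true →
    ∀ a : RuIdx → Fin 4, (∀ p ∈ ps, a p ∈ opt p) →
      anyNZ4 38 (acc + (ps.map fun p => P p (a p)).sum) = true
  | [], acc, h, a, _ => by simpa [dfsP] using h
  | p :: ps, acc, h, a, ha => by
    simp only [List.map_cons, dfsP, List.all_eq_true, List.mem_map,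
      forall_exists_index, and_imp, forall_apply_eq_imp_iff₂] at h
    have := dfsP_sound P opt ps _ (h (a p) (ha p (List.mem_cons_self ..))) a
      (fun q hq => ha q (List.mem_cons_of_mem _ hq))
    simpa [add_assoc] using this

/-! ### residues -/

/-- residue modulo 4 as a natural number -/
def res4 (a : ℤ) : ℕ := (a % 4).toNat

theorem res4_cast (a : ℤ) : ((res4 a : ℕ) : ℤ) = a % 4 :=
  Int.toNat_of_nonneg (Int.emod_nonneg _ (by decide))

theorem res4_lt (a : ℤ) : res4 a < 4 := by
  have h := res4_cast a
  have := Int.emod_lt_of_pos a (show (0 : ℤ) < 4 by decide)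
  omega

theorem sum_res4 (g : RuIdx → ℤ) : ∀ ps : List RuIdx,
    (((ps.map fun p => res4 (g p)).sum : ℕ) : ℤ) % 4 = ((ps.map g).sum) % 4
  | [] => rfl
  | p :: ps => by
    simp only [List.map_cons, List.sum_cons]
    rw [Nat.cast_add, res4_cast]
    have := sum_res4 g ps
    omega

theorem sum_res4_le (g : RuIdx → ℤ) : ∀ ps : List RuIdx,
    (ps.map fun p => res4 (g p)).sum ≤ 3 * ps.length
  | [] => by simp
  | p :: ps => by
    simp only [List.map_cons, List.sum_cons, List.length_cons]
    have := sum_res4_le g ps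
    have := res4_lt (g p)
    omega

/-- the 38 integer fields of a vector of 19 Gaussian integers -/
def fld (V : Fin 19 → GaussianInt) (f : Fin 38) : ℤ :=
  if f.val % 2 = 0 then (V ⟨f.val / 2, by omega⟩).re else (V ⟨f.val / 2, by omega⟩).im

theorem fld_list_sum (V : RuIdx → Fin 19 → GaussianInt) (f : Fin 38) : ∀ ps : List RuIdx,
    fld (fun j => (ps.map fun p => V p j).sum) f = (ps.map fun p => fld (V p) f).sum
  | [] => by simp [fld]
  | p :: ps => by
    have ih := fld_list_sum V f ps
    simp only [List.map_cons, List.sum_cons]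
    rw [← ih]
    unfold fld
    split_ifs <;> simp

theorem fld_of_dvd (V : Fin 19 → GaussianInt) (h : ∀ j, (4 : GaussianInt) ∣ V j) (f : Fin 38) :
    fld V f % 4 = 0 := by
  unfold fld
  split_ifs
  · exact Int.emod_eq_zero_of_dvd ((four_dvd_iff _).1 (h _)).1
  · exact Int.emod_eq_zero_of_dvd ((four_dvd_iff _).1 (h _)).2

theorem sum_eq_list_sum (ps : List RuIdx) (hnd : ps.Nodup) (F : RuIdx → GaussianInt)
    (h0 : ∀ p, p ∉ ps → F p = 0) : ∑ p, F p = (ps.map F).sum := by
  rw [← List.sum_toFinset F hnd]
  symm
  apply Finset.sum_subset (Finset.subset_univ _)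
  intro p _ hp
  exact h0 p (by simpa using hp)

/-- the packed residues of the contribution of the entry `z` at position `p` -/
def packC (z : GaussianInt) (p : RuIdx) : ℕ :=
  packF 38 fun f => res4 (fld (fun j => z * star (ruB j p)) f)

/-- the search is sound -/
theorem dfs_contra (c : GaussianInt) (opt : RuIdx → List (Fin 4)) (ps : List RuIdx) (hnd : ps.Nodup)
    (hlen : ps.length ≤ 8)
    (x : RuVec) (hx : x ∈ ruM) (hsupp : ∀ p, p ∉ ps → x p = 0)
    (hunit : ∀ p ∈ ps, ∃ a ∈ opt p, x p = c * unitG a)
    (hdfs : dfsP (ps.map fun p => (opt p).map fun a => packC (c * unitG a) p) 0 = true) :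
    False := by
  classical
  -- choose the unit indices
  let a : RuIdx → Fin 4 := fun p => if h : p ∈ ps then Classical.choose (hunit p h) else 0
  have ha : ∀ p ∈ ps, a p ∈ opt p ∧ x p = c * unitG (a p) := by
    intro p hp
    simp only [a, hp, dif_pos]
    exact Classical.choose_spec (hunit p hp)
  have h1 := dfsP_sound (fun p a => packC (c * unitG a) p) opt ps 0 hdfs a (fun p hp => (ha p hp).1)
  rw [zero_add] at h1
  have h2 : (ps.map fun p => packC (c * unitG (a p)) p) = ps.map fun p => packC (x p) p := by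
    apply List.map_congr_left
    intro p hp
    rw [(ha p hp).2]
  rw [h2] at h1
  unfold packC at h1
  rw [sum_packF 38 (fun p f => res4 (fld (fun j => x p * star (ruB j p)) f)) ps] at h1
  rw [anyNZ4_packF] at h1
  · obtain ⟨f, hf⟩ := h1
    apply hf
    have h3 := sum_res4 (fun p => fld (fun j => x p * star (ruB j p)) f) ps
    have h4 := fld_list_sum (fun p j => x p * star (ruB j p)) f ps
    have h5 : (fun j => (ps.map fun p => x p * star (ruB j p)).sum) = fun j => herm x (ruB j) := by
      funext j
      unfold herm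
      rw [sum_eq_list_sum ps hnd (fun p => x p * star (ruB j p))]
      intro p hp
      rw [hsupp p hp, zero_mul]
    rw [h5] at h4
    have h6 := fld_of_dvd (fun j => herm x (ruB j)) hx f
    rw [h4] at h6
    rw [h6] at h3
    omega
  · intro f
    have := sum_res4_le (fun p => fld (fun j => x p * star (ruB j p)) f) ps
    omega

end Cfsg.Agent.Lib.Helper8.RuLat
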