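import Cfsg.Agent.Lib.Helper8.RuLat.DfsData

/-! Searches over pairs of blocks (part C). Generated by a script. (helper8) -/

set_option autoImplicit false

namespace Cfsg.Agent.Lib.Helper8.RuLat

open Cfsg.Spor

set_option maxRecDepth 100000 in
theorem pair_ok_2 : ∀ m : Fin 7, 2 < m → PairOK 2 m := by
  decide +kernel

set_option maxRecDepth 100000 in
theorem pair_ok_5 : ∀ m : Fin 7, 5 < m → PairOK 5 m := by
  decide +kernel

end Cfsg.Agent.Lib.Helper8.RuLat
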