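import Cfsg.Agent.Lib.Helper8.RuLat.MemM

/-!
The Rudvalis lattice (as stored) is integral and even: Hermitian products of lattice vectors are divisible
by 4 and stored norms by 8. (helper8)
-/

set_option autoImplicit false

namespace Cfsg.Agent.Lib.Helper8.RuLat

open Cfsg.Spor

set_option maxRecDepth 100000 in
theorem tab_ok : ∀ i : Fin 20, ∀ p,
    (ruTable.getD i 0) p = (∑ l, tabC i l * ruB l p) + 4 * tabZ i p := by
  decide +kernel

theorem ruTable_length : ruTable.length = 20 := by decide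

theorem table_comb {v : RuVec} (hv : v ∈ ruTable) :
    ∃ (c : Fin 19 → GaussianInt) (z : RuVec), v = (∑ l, c l • ruB l) + (4 : GaussianInt) • z := by
  obtain ⟨n, hn, rfl⟩ := List.mem_iff_getElem.1 hv
  have hn' : n < 20 := by rw [← ruTable_length]; exact hn
  refine ⟨tabC ⟨n, hn'⟩, tabZ ⟨n, hn'⟩, ?_⟩
  funext p
  have h := tab_ok ⟨n, hn'⟩ p
  rw [List.getD_eq_getElem _ _ hn] at h
  rw [h]
  simp [Finset.sum_apply]

/-- vectors pairing to multiples of 4 with the whole lattice -/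
def ruM2 : AddSubgroup RuVec where
  carrier := {w | ∀ v ∈ ruLattice, (4 : GaussianInt) ∣ herm v w}
  zero_mem' := by
    intro v _
    simp [herm_zero_right]
  add_mem' := by
    intro a b ha hb v hv
    rw [herm_add_right]
    exact dvd_add (ha v hv) (hb v hv)
  neg_mem' := by
    intro a ha v hv
    rw [herm_neg_right]
    exact (dvd_neg).2 (ha v hv)

theorem ruLattice_le_ruM2 : ruLattice ≤ ruM2 := by
  apply ruLattice_le
  · intro t ht v hv
    obtain ⟨c, z, rfl⟩ := table_comb ht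
    exact dvd_herm_comb (ruLattice_le_ruM hv) c z
  · intro w hw v hv
    rw [herm_smul_right]
    exact dvd_mul_of_dvd_right (hw v hv) _
  · intro w hw v hv
    have h := herm_ruRj v w
    have h2 : herm v (ruRj w) = -herm (ruRj v) w := by rw [h, neg_neg]
    rw [h2, dvd_neg]
    exact hw _ (ruRj_mem hv)
  · intro w hw v hv
    have h := herm_ruRk v w
    have h2 : herm v (ruRk w) = -herm (ruRk v) w := by rw [h, neg_neg]
    rw [h2, dvd_neg]
    exact hw _ (ruRk_mem hv)
  · intro w hw v hv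
    rw [← herm_ruSign]
    exact hw _ (ruSign_mem hv)
  · intro w hw v hv
    rw [← herm_ruShiftInv]
    exact hw _ (ruShiftInv_mem hv)

/-- the lattice is integral: Hermitian products are divisible by 4 (in the stored scale) -/
theorem four_dvd_herm {v w : RuVec} (hv : v ∈ ruLattice) (hw : w ∈ ruLattice) :
    (4 : GaussianInt) ∣ herm v w :=
  ruLattice_le_ruM2 hw v hv

/-- lattice vectors with stored norm divisible by 8 -/
def ruE : AddSubgroup RuVec where
  carrier := {v | v ∈ ruLattice ∧ (8 : ℤ) ∣ ruNorm v}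
  zero_mem' := ⟨ruLattice.zero_mem, by rw [ruNorm_zero]; exact dvd_zero _⟩
  add_mem' := by
    rintro a b ⟨ha, ha8⟩ ⟨hb, hb8⟩
    refine ⟨ruLattice.add_mem ha hb, ?_⟩
    rw [ruNorm_add]
    have h4 := ((four_dvd_iff _).1 (four_dvd_herm ha hb)).1
    obtain ⟨q, hq⟩ := h4
    rw [hq]
    exact dvd_add (dvd_add ha8 hb8) ⟨q, by ring⟩
  neg_mem' := by
    rintro a ⟨ha, ha8⟩
    exact ⟨ruLattice.neg_mem ha, by rw [ruNorm_neg]; exact ha8⟩

theorem table_norm : ∀ v ∈ ruTable, ruNorm v = 16 := by decide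

theorem ruLattice_le_ruE : ruLattice ≤ ruE := by
  apply ruLattice_le
  · intro t ht
    exact ⟨table_mem ht, by rw [table_norm t ht]; decide⟩
  · rintro v ⟨hv, h8⟩
    exact ⟨gI_smul_mem_ruLattice hv, by rw [ruNorm_smul, norm_gI, one_mul]; exact h8⟩
  · rintro v ⟨hv, h8⟩
    exact ⟨ruRj_mem hv, by rw [ruNorm_ruRj]; exact h8⟩
  · rintro v ⟨hv, h8⟩
    exact ⟨ruRk_mem hv, by rw [ruNorm_ruRk]; exact h8⟩
  · rintro v ⟨hv, h8⟩
    exact ⟨ruSign_mem hv, by rw [ruNorm_ruSign]; exact h8⟩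
  · rintro v ⟨hv, h8⟩
    exact ⟨ruShift_mem hv, by rw [ruNorm_ruShift]; exact h8⟩

/-- the lattice is even: stored norms are divisible by 8 -/
theorem eight_dvd_ruNorm {v : RuVec} (hv : v ∈ ruLattice) : (8 : ℤ) ∣ ruNorm v :=
  (ruLattice_le_ruE hv).2

end Cfsg.Agent.Lib.Helper8.RuLat
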