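import Cfsg.Agent.Lib.Helper8.RuLat.Data

/-!
The Rudvalis lattice lies in the "dual" lattice `ruM` cut out by the 19 check vectors `ruB j`:
all Hermitian products with them are divisible by 4. (helper8)
-/

set_option autoImplicit false

namespace Cfsg.Agent.Lib.Helper8.RuLat

open Cfsg.Spor

theorem four_dvd_iff (z : GaussianInt) : (4 : GaussianInt) ∣ z ↔ (4 : ℤ) ∣ z.re ∧ (4 : ℤ) ∣ z.im := by
  have h := Zsqrtd.intCast_dvd (d := -1) 4 z
  simpa using h

theorem star_four : star (4 : GaussianInt) = 4 := by decide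

/-- vectors all of whose Hermitian products with the check vectors are divisible by 4 -/
def ruM : AddSubgroup RuVec where
  carrier := {x | ∀ j, (4 : GaussianInt) ∣ herm x (ruB j)}
  zero_mem' := by
    intro j
    simp [herm_zero_left]
  add_mem' := by
    intro a b ha hb j
    rw [herm_add_left]
    exact dvd_add (ha j) (hb j)
  neg_mem' := by
    intro a ha j
    rw [herm_neg_left]
    exact (dvd_neg).2 (ha j)

theorem mem_ruM {x : RuVec} : x ∈ ruM ↔ ∀ j, (4 : GaussianInt) ∣ herm x (ruB j) := Iff.rfl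

set_option maxRecDepth 100000 in
theorem cert_ok0 : ∀ j p, gmap 0 (ruB j) p = (∑ l, certC 0 j l * ruB l p) + 4 * certZ 0 j p := by
  decide +kernel

set_option maxRecDepth 100000 in
theorem cert_ok1 : ∀ j p, gmap 1 (ruB j) p = (∑ l, certC 1 j l * ruB l p) + 4 * certZ 1 j p := by
  decide +kernel

set_option maxRecDepth 100000 in
theorem cert_ok2 : ∀ j p, gmap 2 (ruB j) p = (∑ l, certC 2 j l * ruB l p) + 4 * certZ 2 j p := by
  decide +kernel

set_option maxRecDepth 100000 in
theorem cert_ok3 : ∀ j p, gmap 3 (ruB j) p = (∑ l, certC 3 j l * ruB l p) + 4 * certZ 3 j p := by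
  decide +kernel

theorem cert_ok (g : Fin 4) (j : Fin 19) (p : RuIdx) :
    gmap g (ruB j) p = (∑ l, certC g j l * ruB l p) + 4 * certZ g j p := by
  fin_cases g
  · exact cert_ok0 j p
  · exact cert_ok1 j p
  · exact cert_ok2 j p
  · exact cert_ok3 j p

theorem gmap_ruB (g : Fin 4) (j : Fin 19) :
    gmap g (ruB j) = (∑ l, certC g j l • ruB l) + (4 : GaussianInt) • certZ g j := by
  funext p
  rw [cert_ok g j p]
  simp [Finset.sum_apply]

/-- anything that is a combination of the check vectors modulo 4 pairs to a multiple of 4 with `ruM` -/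
theorem dvd_herm_comb {x : RuVec} (hx : x ∈ ruM) (c : Fin 19 → GaussianInt) (z : RuVec) :
    (4 : GaussianInt) ∣ herm x ((∑ l, c l • ruB l) + (4 : GaussianInt) • z) := by
  rw [herm_add_right, herm_sum_right, herm_smul_right, star_four]
  apply dvd_add
  · apply Finset.dvd_sum
    intro l _
    exact dvd_mul_of_dvd_right (hx l) _
  · exact dvd_mul_right _ _

theorem dvd_herm_gmap {x : RuVec} (hx : x ∈ ruM) (g : Fin 4) (j : Fin 19) :
    (4 : GaussianInt) ∣ herm x (gmap g (ruB j)) := by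
  rw [gmap_ruB]
  exact dvd_herm_comb hx _ _

theorem gI_smul_mem_ruM {x : RuVec} (hx : x ∈ ruM) : gI • x ∈ ruM := by
  intro j
  rw [herm_smul_left]
  exact dvd_mul_of_dvd_right (hx j) _

theorem smul_mem_ruM (c : GaussianInt) {x : RuVec} (hx : x ∈ ruM) : c • x ∈ ruM := by
  intro j
  rw [herm_smul_left]
  exact dvd_mul_of_dvd_right (hx j) _

theorem ruRj_mem_ruM {x : RuVec} (hx : x ∈ ruM) : ruRj x ∈ ruM := by
  intro j
  rw [herm_ruRj, dvd_neg]
  exact dvd_herm_gmap hx 0 j

theorem ruRk_mem_ruM {x : RuVec} (hx : x ∈ ruM) : ruRk x ∈ ruM := by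
  intro j
  rw [herm_ruRk, dvd_neg]
  exact dvd_herm_gmap hx 1 j

theorem ruSign_mem_ruM {x : RuVec} (hx : x ∈ ruM) : ruSign x ∈ ruM := by
  intro j
  rw [herm_ruSign]
  exact dvd_herm_gmap hx 2 j

theorem ruShift_mem_ruM {x : RuVec} (hx : x ∈ ruM) : ruShift x ∈ ruM := by
  intro j
  rw [herm_ruShift]
  exact dvd_herm_gmap hx 3 j

set_option maxRecDepth 100000 in
theorem table_div4 : ∀ v ∈ ruTable, ∀ j, (4 : ℤ) ∣ (herm v (ruB j)).re ∧ (4 : ℤ) ∣ (herm v (ruB j)).im := by
  decide +kernel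

theorem table_mem_ruM : ∀ v ∈ ruTable, v ∈ ruM := by
  intro v hv j
  rw [four_dvd_iff]
  exact table_div4 v hv j

theorem ruLattice_le_ruM : ruLattice ≤ ruM :=
  ruLattice_le ruM table_mem_ruM (fun _ h => gI_smul_mem_ruM h) (fun _ h => ruRj_mem_ruM h)
    (fun _ h => ruRk_mem_ruM h) (fun _ h => ruSign_mem_ruM h) (fun _ h => ruShift_mem_ruM h)

end Cfsg.Agent.Lib.Helper8.RuLat
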