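import Cfsg.Agent.Lib.Helper8.RuLat.Codes
import Cfsg.Agent.Lib.Helper8.RuLat.Even
import Cfsg.Agent.Lib.Helper8.RuLat.DfsPairA
import Cfsg.Agent.Lib.Helper8.RuLat.DfsPairB
import Cfsg.Agent.Lib.Helper8.RuLat.DfsPairC
import Cfsg.Agent.Lib.Helper8.RuLat.DfsPairD

/-!
The Rudvalis lattice (as stored) has no vector of stored norm 8: descent through the four `(1+i)`-adic
layers. (helper8)
-/

set_option autoImplicit false

namespace Cfsg.Agent.Lib.Helper8.RuLat

open Cfsg.Spor

/-- `x` lies in the `k`-th layer: `(1+i)^k x` satisfies all checks -/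
def Lay (k : ℕ) (x : RuVec) : Prop := (piG ^ k) • x ∈ ruM

theorem herm_ruB (x : RuVec) (j : Fin 19) : herm x (ruB j) = piG ^ (kkv j) * herm x (ruY j) := by
  unfold ruB
  rw [herm_smul_right, star_pow, star_star_piG]

theorem par_herm (x y : RuVec) : par (herm x y) = ∑ q, par (x q) * par (y q) := by
  unfold herm
  rw [map_sum]
  refine Finset.sum_congr rfl fun q _ => ?_
  rw [map_mul, par_star]

theorem par_check (k : ℕ) (x : RuVec) (hx : Lay k x) (j : Fin 19) (hj : kkv j + k < 4) :
    ∑ q, Hm j q * par (x q) = 0 := by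
  have h := hx j
  rw [herm_smul_left, herm_ruB, ← mul_assoc, ← pow_add] at h
  have h4 : piG ^ 4 ∣ piG ^ (k + kkv j) * herm x (ruY j) := by
    refine dvd_trans ?_ h
    rw [piG_pow_four]
    exact (neg_dvd).2 (dvd_refl _)
  have he : piG ^ 4 = piG ^ (k + kkv j) * piG ^ (4 - (k + kkv j)) := by
    rw [← pow_add]
    congr 1
    omega
  rw [he] at h4
  have h5 : piG ^ (4 - (k + kkv j)) ∣ herm x (ruY j) :=
    (mul_dvd_mul_iff_left (pow_ne_zero _ piG_ne_zero)).1 h4
  have h6 : piG ∣ herm x (ruY j) := dvd_trans (dvd_pow_self piG (by omega)) h5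
  have h7 : par (herm x (ruY j)) = 0 := by
    obtain ⟨w, hw⟩ := h6
    rw [hw, map_mul, par_piG, zero_mul]
  rw [par_herm] at h7
  rw [← h7]
  refine Finset.sum_congr rfl fun q _ => ?_
  rw [Hm_eq, mul_comm]

theorem descend (k : ℕ) (x : RuVec) (hx : Lay k x) (hs : ∀ q, par (x q) = 0) :
    ∃ x' : RuVec, Lay (k + 1) x' ∧ ruNorm x = 2 * ruNorm x' := by
  choose x' hx' using fun q => piG_dvd_of_par (hs q)
  have hxx : x = piG • x' := by
    funext q
    simp [hx' q]
  refine ⟨x', ?_, ?_⟩
  · unfold Lay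
    rw [pow_succ, mul_smul, ← hxx]
    exact hx
  · rw [hxx, ruNorm_smul, norm_piG]

theorem eq_case (x : RuVec) (S : RuIdx → ZMod 2) (hs : ∀ q, par (x q) = S q)
    (hn : ruNorm x = ((∑ q, (S q).val : ℕ) : ℤ)) :
    ∀ q, (x q).norm = (((S q).val : ℕ) : ℤ) := by
  have hle : ∀ q, (((S q).val : ℕ) : ℤ) ≤ (x q).norm := fun q => by
    rw [← hs q]
    exact par_val_le_norm _
  have hsum : ∑ q, ((x q).norm - (((S q).val : ℕ) : ℤ)) = 0 := by
    rw [Finset.sum_sub_distrib]
    unfold ruNorm at hn
    rw [hn]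
    push_cast
    ring
  have h0 := (Finset.sum_eq_zero_iff_of_nonneg (fun q _ => sub_nonneg.2 (hle q))).1 hsum
  intro q
  have := h0 q (Finset.mem_univ _)
  linarith

theorem kkv3 : ∀ j : Fin 9, kkv (Fin.castLE (by decide) j) + 3 < 4 := by decide
theorem kkv2 : ∀ j : Fin 10, kkv (Fin.castLE (by decide) j) + 2 < 4 := by decide
theorem kkv1 : ∀ j : Fin 18, kkv (Fin.castLE (by decide) j) + 1 < 4 := by decide
theorem kkv0 : ∀ j : Fin 19, kkv j + 0 < 4 := by decide

theorem weight_le (x : RuVec) (n : ℕ) (hn : ruNorm x = n) : ∑ q, (par (x q)).val ≤ n := by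
  have := weight_le_ruNorm x
  rw [hn] at this
  exact_mod_cast this

theorem lay3 (x : RuVec) (hx : Lay 3 x) (hn : ruNorm x = 1) : False := by
  have hs := code3 (fun q => par (x q)) (fun j => par_check 3 x hx _ (kkv3 j))
    (le_trans (weight_le x 1 (by simpa using hn)) (by decide))
  obtain ⟨x', _, hx'⟩ := descend 3 x hx (fun q => congrFun hs q)
  omega

theorem lay2 (x : RuVec) (hx : Lay 2 x) (hn : ruNorm x = 2) : False := by
  have hs := code2 (fun q => par (x q)) (fun j => par_check 2 x hx _ (kkv2 j))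
    (weight_le x 2 (by simpa using hn))
  obtain ⟨x', h1, hx'⟩ := descend 2 x hx (fun q => congrFun hs q)
  exact lay3 x' h1 (by omega)

theorem mem_blockList (n : Fin 7) (p : RuIdx) : p ∈ blockList n ↔ p.1 = n := by
  obtain ⟨a, t⟩ := p
  fin_cases t <;> simp [blockList, eq_comm]

theorem blk_weight : ∀ n : Fin 7, ∑ q, (blk n q).val = 4 := by decide

theorem bp_weight : ∀ n m : Fin 7, n < m → ∑ q, (bp n m q).val = 8 := by decide

theorem pair_nodup : ∀ n m : Fin 7, n < m → (blockList n ++ blockList m).Nodup := by decide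

theorem unit_inv : ∀ a : Fin 4, ∃ b : Fin 4, unitG b * unitG a = 1 := by decide

theorem unit_mul : ∀ a b : Fin 4, ∃ c : Fin 4, unitG a * unitG b = unitG c := by decide

theorem lay1 (x : RuVec) (hx : Lay 1 x) (hn : ruNorm x = 4) : False := by
  have hw := weight_le x 4 (by simpa using hn)
  rcases code1 (fun q => par (x q)) (fun j => par_check 1 x hx _ (kkv1 j)) with h | h | ⟨n, h⟩
  · omega
  · obtain ⟨x', h1, hx'⟩ := descend 1 x hx (fun q => congrFun h q)
    exact lay2 x' h1 (by omega)
  · have hnorm := eq_case x (blk n) (fun q => congrFun h q) (by rw [blk_weight n]; simpa using hn)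
    have hxM : piG • x ∈ ruM := by
      have := hx
      unfold Lay at this
      rwa [pow_one] at this
    refine dfs_contra piG (fun _ => List.finRange 4) (blockList n) (by simp [blockList]) (by simp [blockList])
      (piG • x) hxM ?_ ?_ ?_
    · intro p hp
      rw [mem_blockList] at hp
      have h0 := hnorm p
      have : blk n p = 0 := by simp [blk, hp]
      rw [this] at h0
      have hz : x p = 0 := (Zsqrtd.norm_eq_zero_iff (by decide) _).1 (by simpa using h0)
      simp [hz]
    · intro p hp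
      rw [mem_blockList] at hp
      have h0 := hnorm p
      have : blk n p = 1 := by simp [blk, hp]
      rw [this] at h0
      obtain ⟨a, ha⟩ := unit_of_norm_one (z := x p) (by simpa [ZMod.val_one] using h0)
      exact ⟨a, List.mem_finRange a, by simp [ha]⟩
    · have := dfs_block n
      simp only [← PTpi_eq] at this
      exact this

theorem pair_ok : ∀ n m : Fin 7, n < m → PairOK n m := by
  intro n m h
  fin_cases n
  · exact pair_ok_0 m h
  · exact pair_ok_1 m h
  · exact pair_ok_2 m h
  · exact pair_ok_3 m h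
  · exact pair_ok_4 m h
  · exact pair_ok_5 m h
  · exfalso
    revert h
    revert m
    decide

theorem lay0 (x : RuVec) (hx : Lay 0 x) (hn : ruNorm x = 8) : False := by
  have hw := weight_le x 8 (by simpa using hn)
  rcases code0 (fun q => par (x q)) (fun j => par_check 0 x hx j (kkv0 j)) with h | h | ⟨n, m, hnm, h⟩
  · omega
  · obtain ⟨x', h1, hx'⟩ := descend 0 x hx (fun q => congrFun h q)
    exact lay1 x' h1 (by omega)
  · have hnorm := eq_case x (bp n m) (fun q => congrFun h q) (by rw [bp_weight n m hnm]; simpa using hn)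
    have hxM : x ∈ ruM := by
      have := hx
      unfold Lay at this
      rwa [pow_zero, one_smul] at this
    have hmem : ∀ p : RuIdx, p ∈ blockList n ++ blockList m ↔ (p.1 = n ∨ p.1 = m) := by
      intro p
      rw [List.mem_append, mem_blockList, mem_blockList]
    have hzero : ∀ p : RuIdx, ¬ (p.1 = n ∨ p.1 = m) → x p = 0 := by
      intro p hp
      have h0 := hnorm p
      have : bp n m p = 0 := by simp [bp, hp]
      rw [this] at h0
      exact (Zsqrtd.norm_eq_zero_iff (by decide) _).1 (by simpa using h0)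
    have hone : ∀ p : RuIdx, (p.1 = n ∨ p.1 = m) → ∃ a : Fin 4, x p = unitG a := by
      intro p hp
      have h0 := hnorm p
      have : bp n m p = 1 := by simp [bp, hp]
      rw [this] at h0
      exact unit_of_norm_one (by simpa [ZMod.val_one] using h0)
    obtain ⟨a0, ha0⟩ := hone (n, 0) (Or.inl rfl)
    obtain ⟨b, hb⟩ := unit_inv a0
    refine dfs_contra 1 (optPair n) (blockList n ++ blockList m) (pair_nodup n m hnm)
      (by simp [blockList]) (unitG b • x) (smul_mem_ruM _ hxM) ?_ ?_ ?_
    · intro p hp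
      rw [hmem] at hp
      simp [hzero p hp]
    · intro p hp
      rw [hmem] at hp
      by_cases hp0 : p = (n, 0)
      · refine ⟨0, by simp [optPair, hp0], ?_⟩
        rw [hp0]
        simp only [Pi.smul_apply, smul_eq_mul, ha0, hb]
        decide
      · obtain ⟨a, ha⟩ := hone p hp
        obtain ⟨c, hc⟩ := unit_mul b a
        refine ⟨c, by simp [optPair, hp0], ?_⟩
        simp only [Pi.smul_apply, smul_eq_mul, ha, hc, one_mul]
    · have := pair_ok n m hnm
      unfold PairOK at this
      simp only [← PT1_eq] at this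
      exact this

/-- no lattice vector has stored norm 8 -/
theorem ruNorm_ne_eight {x : RuVec} (hx : x ∈ ruLattice) : ruNorm x ≠ 8 := by
  intro h
  refine lay0 x ?_ h
  unfold Lay
  rw [pow_zero, one_smul]
  exact ruLattice_le_ruM hx

theorem ruNorm_pos {x : RuVec} (hx : x ≠ 0) : 0 < ruNorm x := by
  unfold ruNorm
  have hnn : ∀ q ∈ (Finset.univ : Finset RuIdx), 0 ≤ (x q).norm :=
    fun q _ => Zsqrtd.norm_nonneg (by decide) _
  rcases (Finset.sum_nonneg hnn).lt_or_eq with h | h
  · exact h
  · exfalso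
    apply hx
    have h0 := (Finset.sum_eq_zero_iff_of_nonneg hnn).1 h.symm
    funext q
    exact (Zsqrtd.norm_eq_zero_iff (by decide) _).1 (h0 q (Finset.mem_univ _))

theorem ruLattice_main :
    (∀ x ∈ ruLattice, (8 : ℤ) ∣ ruNorm x) ∧ (∀ x ∈ ruLattice, ruNorm x ≠ 8) ∧
      (∀ x ∈ ruLattice, x ≠ 0 → 16 ≤ ruNorm x) ∧ ∃ x ∈ ruLattice, ruNorm x = 16 := by
  refine ⟨fun x hx => eight_dvd_ruNorm hx, fun x hx => ruNorm_ne_eight hx, ?_, ?_⟩
  · intro x hx h0
    have h1 := eight_dvd_ruNorm hx
    have h2 := ruNorm_ne_eight hx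
    have h3 := ruNorm_pos h0
    obtain ⟨k, hk⟩ := h1
    omega
  · have hl : 0 < ruTable.length := by rw [ruTable_length]; decide
    exact ⟨ruTable[0], table_mem (List.getElem_mem hl), table_norm _ (List.getElem_mem hl)⟩

end Cfsg.Agent.Lib.Helper8.RuLat
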